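import Mathlib
import Groth.Prelude.Def_W4c1hilbpnTgt

/-! Monomial ideals in polynomial rings: normal-form coefficients, maps out of monomial ideals,
multigraded components of `Hom_S(I, S/I)`. -/

set_option autoImplicit false
set_option backward.isDefEq.respectTransparency false

namespace Groth.Agent.W4Hilb

open MvPolynomial W4c1hilbpn

universe u v
variable {σ : Type v} {k : Type u} [Field k]

local notation "S" => MvPolynomial σ k

theorem exps_add {I : Ideal S} {β : σ →₀ ℕ} (h : β ∈ exps I) (δ : σ →₀ ℕ) : β + δ ∈ exps I := by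
  have := I.mul_mem_right (monomial δ (1 : k)) h
  rwa [monomial_mul, one_mul] at this

theorem exps_of_le {I : Ideal S} {β β' : σ →₀ ℕ} (h : β ∈ exps I) (hle : β ≤ β') : β' ∈ exps I := by
  obtain ⟨δ, rfl⟩ := exists_add_of_le hle
  exact exps_add h δ

theorem not_exps_of_le {I : Ideal S} {β β' : σ →₀ ℕ} (h : β' ∉ exps I) (hle : β ≤ β') : β ∉ exps I :=
  fun hb => h (exps_of_le hb hle)

theorem monomial_eq_smul_one (β : σ →₀ ℕ) (c : k) : (monomial β c : S) = c • monomial β (1 : k) := by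
  rw [smul_monomial, smul_eq_mul, mul_one]

theorem mem_iff {I : Ideal S} (hI : IsMonomial I) {p : S} :
    p ∈ I ↔ ∀ β ∈ p.support, β ∈ exps I := by
  refine ⟨fun h β hβ => hI p h β hβ, fun h => ?_⟩
  rw [p.as_sum]
  refine I.sum_mem fun β hβ => ?_
  rw [monomial_eq_smul_one]
  exact Submodule.smul_of_tower_mem I _ (h β hβ)

theorem coeff_eq_zero_of_mem {I : Ideal S} (hI : IsMonomial I) {p : S} (hp : p ∈ I) {γ : σ →₀ ℕ}
    (hγ : γ ∉ exps I) : coeff γ p = 0 :=
  notMem_support_iff.1 fun h => hγ (hI p hp γ h)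

open Classical in
/-- The coefficient of `x^γ` in the normal form of a class modulo a monomial ideal. -/
noncomputable def coef {I : Ideal S} (hI : IsMonomial I) (γ : σ →₀ ℕ) : (S ⧸ I) →ₗ[k] k where
  toFun q := Quotient.liftOn' q (fun p => if γ ∈ exps I then 0 else coeff γ p) (by
    intro p p' h
    have h' : p - p' ∈ I := (Submodule.quotientRel_def I).1 h
    by_cases hg : γ ∈ exps I
    · simp only [hg, if_true]
    · simp only [hg, if_false]
      have := coeff_eq_zero_of_mem hI h' hg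
      rwa [coeff_sub, sub_eq_zero] at this)
  map_add' q q' := by
    obtain ⟨p, rfl⟩ := Ideal.Quotient.mk_surjective q
    obtain ⟨p', rfl⟩ := Ideal.Quotient.mk_surjective q'
    show (if γ ∈ exps I then 0 else coeff γ (p + p')) =
      (if γ ∈ exps I then 0 else coeff γ p) + (if γ ∈ exps I then 0 else coeff γ p')
    by_cases hg : γ ∈ exps I <;> simp [hg]
  map_smul' c q := by
    obtain ⟨p, rfl⟩ := Ideal.Quotient.mk_surjective q
    show (if γ ∈ exps I then 0 else coeff γ (c • p)) = c • (if γ ∈ exps I then 0 else coeff γ p)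
    by_cases hg : γ ∈ exps I <;> simp [hg]

variable {I : Ideal (MvPolynomial σ k)} (hI : IsMonomial I)

open Classical in
theorem coef_mk (γ : σ →₀ ℕ) (p : S) :
    coef hI γ (Ideal.Quotient.mk I p) = if γ ∈ exps I then 0 else coeff γ p := rfl

theorem coef_of_mem {γ : σ →₀ ℕ} (h : γ ∈ exps I) (q : S ⧸ I) : coef hI γ q = 0 := by
  obtain ⟨p, rfl⟩ := Ideal.Quotient.mk_surjective q
  rw [coef_mk, if_pos h]

theorem eq_zero_of_coef {q : S ⧸ I} (h : ∀ γ, γ ∉ exps I → coef hI γ q = 0) : q = 0 := by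
  obtain ⟨p, rfl⟩ := Ideal.Quotient.mk_surjective q
  rw [Ideal.Quotient.eq_zero_iff_mem, mem_iff hI]
  intro β hβ
  by_contra hc
  have := h β hc
  rw [coef_mk, if_neg hc] at this
  exact (mem_support_iff.1 hβ) this

theorem eq_of_coef {q q' : S ⧸ I} (h : ∀ γ, γ ∉ exps I → coef hI γ q = coef hI γ q') : q = q' :=
  sub_eq_zero.1 (eq_zero_of_coef hI fun γ hγ => by rw [map_sub, sub_eq_zero]; exact h γ hγ)

open Classical in
theorem coef_mono (γ δ : σ →₀ ℕ) :
    coef hI γ (Ideal.Quotient.mk I (monomial δ (1 : k))) = if δ = γ ∧ γ ∉ exps I then 1 else 0 := by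
  rw [coef_mk, coeff_monomial]
  by_cases h : γ ∈ exps I <;> simp [h]

theorem mono_ne_zero {δ : σ →₀ ℕ} (h : δ ∉ exps I) : Ideal.Quotient.mk I (monomial δ (1 : k)) ≠ 0 :=
  fun h0 => h (Ideal.Quotient.eq_zero_iff_mem.1 h0)

open Classical in
theorem coef_monomial_smul (δ : σ →₀ ℕ) (q : S ⧸ I) (γ : σ →₀ ℕ) (hγ : γ ∉ exps I) :
    coef hI γ ((monomial δ (1 : k) : S) • q) = if δ ≤ γ then coef hI (γ - δ) q else 0 := by
  obtain ⟨p, rfl⟩ := Ideal.Quotient.mk_surjective q
  rw [show (monomial δ (1 : k) : S) • Ideal.Quotient.mk I p = Ideal.Quotient.mk I (monomial δ 1 * p) from rfl,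
    coef_mk, if_neg hγ, coeff_monomial_mul']
  by_cases h : δ ≤ γ
  · rw [if_pos h, if_pos h, one_mul, coef_mk, if_neg (not_exps_of_le hγ tsub_le_self)]
  · rw [if_neg h, if_neg h]

theorem coef_smul_shift (δ γ : σ →₀ ℕ) (q : S ⧸ I) (h : γ + δ ∉ exps I) :
    coef hI (γ + δ) ((monomial δ (1 : k) : S) • q) = coef hI γ q := by
  classical
  rw [coef_monomial_smul hI δ q _ h, if_pos le_add_self, add_tsub_cancel_right]

/-! ### Maps out of a monomial ideal -/

/-- `φ` at the monomial `x^β ∈ I`. -/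
noncomputable abbrev app (φ : Tgt I) {β : σ →₀ ℕ} (hβ : β ∈ exps I) : S ⧸ I := φ ⟨monomial β 1, hβ⟩

theorem app_add (φ : Tgt I) {β : σ →₀ ℕ} (hβ : β ∈ exps I) (δ : σ →₀ ℕ) :
    app φ (exps_add hβ δ) = (monomial δ (1 : k) : S) • app φ hβ := by
  have : (⟨monomial (β + δ) 1, exps_add hβ δ⟩ : I) = (monomial δ (1 : k) : S) • ⟨monomial β 1, hβ⟩ :=
    Subtype.ext (by
      show monomial (β + δ) (1 : k) = monomial δ 1 * monomial β 1
      rw [monomial_mul, one_mul, add_comm])
  rw [app, this, map_smul]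

theorem app_congr (φ : Tgt I) {β β' : σ →₀ ℕ} (e : β = β') (hβ : β ∈ exps I) :
    app φ hβ = app φ (e ▸ hβ : β' ∈ exps I) := by
  subst e; rfl

theorem tgt_ext {φ ψ : Tgt I} (hI : IsMonomial I)
    (h : ∀ β (hβ : β ∈ exps I), app φ hβ = app ψ hβ) : φ = ψ := by
  refine LinearMap.ext fun p => ?_
  have hp : p = ∑ β ∈ p.1.support.attach,
      (C (coeff β.1 p.1) : S) • (⟨monomial β.1 1, hI p.1 p.2 β.1 β.2⟩ : I) := by
    refine Subtype.ext ?_
    rw [AddSubmonoidClass.coe_finsetSum]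
    refine (p.1.as_sum).trans ?_
    rw [← Finset.sum_attach]
    refine Finset.sum_congr rfl fun β _ => ?_
    show _ = C _ * monomial β.1 (1 : k)
    rw [C_mul_monomial, mul_one]
  rw [hp, map_sum, map_sum]
  refine Finset.sum_congr rfl fun β _ => ?_
  rw [map_smul, map_smul]
  exact congrArg _ (h β.1 _)

open Classical in
/-- The `S`-linear map out of a monomial ideal with prescribed values on monomials. -/
noncomputable def mkTgt (hI : IsMonomial I) (f : (σ →₀ ℕ) → S ⧸ I)
    (hf : ∀ β δ, β ∈ exps I → f (β + δ) = (monomial δ (1 : k) : S) • f β) : Tgt I where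
  toFun p := (basisMonomials σ k).constr k f p.1
  map_add' p q := map_add _ p.1 q.1
  map_smul' r p := by
    let Ψ := (basisMonomials σ k).constr k f
    have hΨ : ∀ β, Ψ (monomial β (1 : k)) = f β := fun β => by
      show (basisMonomials σ k).constr k f (monomial β (1 : k)) = f β
      rw [← congrFun (coe_basisMonomials σ k) β]
      exact Module.Basis.constr_basis _ _ _ _
    have hm : ∀ δ, ∀ q ∈ I, Ψ (monomial δ (1 : k) * q) = (monomial δ (1 : k) : S) • Ψ q := by
      intro δ q hq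
      rw [q.as_sum, Finset.mul_sum, map_sum, map_sum, Finset.smul_sum]
      refine Finset.sum_congr rfl fun β hβ => ?_
      rw [monomial_eq_smul_one β (coeff β q), mul_smul_comm, monomial_mul, one_mul, map_smul, map_smul, hΨ, hΨ,
        add_comm, hf β δ (hI q hq β hβ), smul_comm]
    show Ψ (r * p.1) = r • Ψ p.1
    induction r using MvPolynomial.induction_on' with
    | monomial δ c =>
      rw [monomial_eq_smul_one δ c, smul_mul_assoc, map_smul, hm δ p.1 p.2, smul_assoc]
    | add a b ha hb => rw [add_mul, map_add, ha, hb, add_smul]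

theorem app_mkTgt (f : (σ →₀ ℕ) → S ⧸ I)
    (hf : ∀ β δ, β ∈ exps I → f (β + δ) = (monomial δ (1 : k) : S) • f β) {β : σ →₀ ℕ} (hβ : β ∈ exps I) :
    app (mkTgt hI f hf) hβ = f β := by
  show (basisMonomials σ k).constr k f (monomial β (1 : k)) = f β
  rw [← congrFun (coe_basisMonomials σ k) β]
  exact Module.Basis.constr_basis _ _ _ _

/-- A minimal element of the exponent set below a given one. -/
theorem exists_minimal_le {β : σ →₀ ℕ} (hβ : β ∈ exps I) :
    ∃ g ∈ exps I, g ≤ β ∧ ∀ h ∈ exps I, h ≤ g → h = g := by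
  obtain ⟨g, ⟨hg, hgβ⟩, hmin⟩ :=
    (wellFounded_lt (α := σ →₀ ℕ)).has_min {g | g ∈ exps I ∧ g ≤ β} ⟨β, hβ, le_rfl⟩
  exact ⟨g, hg, hgβ, fun h hh hle => hle.eq_or_lt.resolve_right fun hlt => hmin h ⟨hh, hle.trans hgβ⟩ hlt⟩

open Classical in
/-- The map sending the minimal generator `x^g` to the socle monomial `x^M` and the other ones to `0`. -/
noncomputable def socleMap (hI : IsMonomial I) (g M : σ →₀ ℕ) (hg : ∀ h ∈ exps I, h ≤ g → h = g)
    (hM : ∀ δ : σ →₀ ℕ, δ ≠ 0 → M + δ ∈ exps I) : Tgt I :=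
  mkTgt hI (fun β => if β = g then Ideal.Quotient.mk I (monomial M (1 : k)) else 0) (fun β δ hβ => by
    by_cases hd : δ = 0
    · subst hd; simp
    rw [if_neg]
    · by_cases hb : β = g
      · rw [if_pos hb]
        refine (Eq.symm ?_)
        show Ideal.Quotient.mk I (monomial δ 1 * monomial M 1) = 0
        rw [Ideal.Quotient.eq_zero_iff_mem, monomial_mul, one_mul, add_comm]
        exact hM δ hd
      · rw [if_neg hb, smul_zero]
    · intro he
      have := hg β hβ (he ▸ le_self_add)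
      exact hd (by simpa [this] using he))

/-! ### Graded pieces -/

/-- The integer vector of an exponent vector. -/
def vec (β : σ →₀ ℕ) : σ → ℤ := fun i => (β i : ℤ)

theorem vec_injective : Function.Injective (vec : (σ →₀ ℕ) → σ → ℤ) := fun _ _ h =>
  Finsupp.ext fun i => by simpa [vec] using congrFun h i

@[simp] theorem vec_add (β δ : σ →₀ ℕ) : vec (β + δ) = vec β + vec δ := funext fun i => by simp [vec]

variable [Finite σ]

theorem shift_apply (β : σ →₀ ℕ) (α : σ → ℤ) (i : σ) : shift β α i = ((β i : ℤ) + α i).toNat := rfl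

theorem vec_eq_iff_shift {β γ : σ →₀ ℕ} {α : σ → ℤ} :
    vec γ = vec β + α ↔ (∀ i, 0 ≤ (β i : ℤ) + α i) ∧ γ = shift β α := by
  constructor
  · intro h
    have hi : ∀ i, (γ i : ℤ) = (β i : ℤ) + α i := congrFun h
    exact ⟨fun i => (hi i) ▸ Int.natCast_nonneg _, Finsupp.ext fun i => by rw [shift_apply, ← hi i]; simp⟩
  · rintro ⟨h, rfl⟩
    exact funext fun i => by simp [vec, shift_apply, h i]

theorem mem_tPiece (hI : IsMonomial I) {φ : Tgt I} {α : σ → ℤ} :
    φ ∈ tPiece I α ↔ ∀ β (hβ : β ∈ exps I) γ, coef hI γ (app φ hβ) ≠ 0 → vec γ = vec β + α := by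
  classical
  constructor
  · intro h β hβ γ hne
    by_cases hp : ∀ i, 0 ≤ (β i : ℤ) + α i
    · obtain ⟨c, hc⟩ := Submodule.mem_span_singleton.1 ((h β hβ).1 hp)
      rw [app, ← hc, map_smul, coef_mono] at hne
      refine vec_eq_iff_shift.2 ⟨hp, ?_⟩
      by_contra hh
      rw [if_neg (fun h' => hh h'.1.symm), smul_zero] at hne
      exact hne rfl
    · push_neg at hp
      rw [app, (h β hβ).2 hp, map_zero] at hne
      exact absurd rfl hne
  · intro h β hβ
    refine ⟨fun hp => Submodule.mem_span_singleton.2 ⟨coef hI (shift β α) (app φ hβ), ?_⟩,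
      fun ⟨i, hi⟩ => ?_⟩
    · refine eq_of_coef hI fun γ hγ => ?_
      rw [map_smul, coef_mono]
      by_cases hs : shift β α = γ
      · rw [if_pos ⟨hs, hγ⟩, hs, smul_eq_mul, mul_one]
      · rw [if_neg (fun h' => hs h'.1), smul_zero]
        exact (by_contra fun hne => hs (vec_eq_iff_shift.1 (h β hβ γ (fun h0 => hne h0.symm))).2.symm)
    · refine eq_zero_of_coef hI fun γ _ => by_contra fun hne => ?_
      exact absurd ((vec_eq_iff_shift.1 (h β hβ γ hne)).1 i) (not_le.2 hi)

theorem socleMap_mem_tPiece (g M : σ →₀ ℕ) (hg : ∀ h ∈ exps I, h ≤ g → h = g)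
    (hM : ∀ δ : σ →₀ ℕ, δ ≠ 0 → M + δ ∈ exps I) (α : σ → ℤ) (hα : vec M = vec g + α) :
    socleMap hI g M hg hM ∈ tPiece I α := by
  classical
  refine (mem_tPiece hI).2 fun β hβ γ hne => ?_
  rw [socleMap, app_mkTgt] at hne
  by_cases hb : β = g
  · rw [if_pos hb, coef_mono] at hne
    by_cases hc : M = γ ∧ γ ∉ exps I
    · rw [← hc.1, hb, hα]
    · rw [if_neg hc] at hne; exact absurd rfl hne
  · rw [if_neg hb, map_zero] at hne; exact absurd rfl hne

theorem socleMap_ne_zero (g M : σ →₀ ℕ) (hgI : g ∈ exps I) (hg : ∀ h ∈ exps I, h ≤ g → h = g)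
    (hMI : M ∉ exps I) (hM : ∀ δ : σ →₀ ℕ, δ ≠ 0 → M + δ ∈ exps I) : socleMap hI g M hg hM ≠ 0 := by
  classical
  intro h
  have h' := LinearMap.congr_fun h ⟨monomial g 1, hgI⟩
  change app (socleMap hI g M hg hM) hgI = 0 at h'
  rw [socleMap, app_mkTgt, if_pos rfl] at h'
  exact mono_ne_zero hMI h'

open Classical in
/-- The component of `φ` of multidegree `α`, evaluated at `x^β`. -/
noncomputable def pick (hI : IsMonomial I) (φ : Tgt I) (α : σ → ℤ) (β : σ →₀ ℕ) : S ⧸ I :=
  if h : β ∈ exps I ∧ ∀ i, 0 ≤ (β i : ℤ) + α i then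
    coef hI (shift β α) (app φ h.1) • Ideal.Quotient.mk I (monomial (shift β α) (1 : k))
  else 0

open Classical in
theorem coef_pick (φ : Tgt I) (α : σ → ℤ) {β : σ →₀ ℕ} (hβ : β ∈ exps I) (γ : σ →₀ ℕ) :
    coef hI γ (pick hI φ α β) = if vec γ = vec β + α then coef hI γ (app φ hβ) else 0 := by
  by_cases hp : ∀ i, 0 ≤ (β i : ℤ) + α i
  · rw [pick, dif_pos ⟨hβ, hp⟩, map_smul, coef_mono, smul_eq_mul]
    by_cases hs : shift β α = γ
    · rw [if_pos (vec_eq_iff_shift.2 ⟨hp, hs.symm⟩)]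
      by_cases hg : γ ∈ exps I
      · rw [if_neg (fun h => h.2 hg), mul_zero, coef_of_mem hI hg]
      · rw [if_pos ⟨hs, hg⟩, mul_one, hs]
    · rw [if_neg (fun h => hs h.1), mul_zero, if_neg (fun h => hs (vec_eq_iff_shift.1 h).2.symm)]
  · rw [pick, dif_neg (fun h => hp h.2), map_zero, if_neg (fun h => hp (vec_eq_iff_shift.1 h).1)]

/-- The component of `φ` of multidegree `α`. -/
noncomputable def cmp (hI : IsMonomial I) (φ : Tgt I) (α : σ → ℤ) : Tgt I :=
  mkTgt hI (pick hI φ α) (fun β δ hβ => by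
    classical
    refine eq_of_coef hI fun γ hγ => ?_
    rw [coef_pick hI φ α (exps_add hβ δ), coef_monomial_smul hI δ _ γ hγ, app_add φ hβ δ,
      coef_monomial_smul hI δ _ γ hγ]
    by_cases hd : δ ≤ γ
    · simp only [if_pos hd]
      rw [coef_pick hI φ α hβ]
      have : vec γ = vec (γ - δ) + vec δ := by rw [← vec_add, tsub_add_cancel_of_le hd]
      have e : vec γ = vec (β + δ) + α ↔ vec (γ - δ) = vec β + α := by
        rw [this, vec_add, add_right_comm (vec β) (vec δ) α, add_left_inj]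
      simp only [e]
    · simp [if_neg hd])

theorem cmp_mem (φ : Tgt I) (α : σ → ℤ) : cmp hI φ α ∈ tPiece I α := by
  classical
  refine (mem_tPiece hI).2 fun β hβ γ hne => ?_
  rw [cmp, app_mkTgt, coef_pick hI φ α hβ] at hne
  by_contra h
  exact hne (if_neg h)

/-- A monomial ideal is generated by finitely many monomials. -/
theorem exists_gens (hI : IsMonomial I) :
    ∃ G : Finset (σ →₀ ℕ), ↑G ⊆ exps I ∧ ∀ β ∈ exps I, ∃ g ∈ G, g ≤ β := by
  classical
  obtain ⟨s, hs⟩ := IsNoetherian.noetherian I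
  refine ⟨s.biUnion fun p => p.support, ?_, fun β hβ => ?_⟩
  · intro β hβ
    obtain ⟨p, hp, hb⟩ := Finset.mem_biUnion.1 hβ
    exact hI p (hs ▸ Submodule.subset_span hp) β hb
  · have hle : I ≤ Ideal.span ((fun g => monomial g (1 : k)) '' ↑(s.biUnion fun p => p.support)) := by
      rw [← hs]
      refine Submodule.span_le.2 fun p hp => mem_ideal_span_monomial_image.2 fun b hb => ⟨b, ?_, le_rfl⟩
      exact Finset.mem_biUnion.2 ⟨p, hp, hb⟩
    obtain ⟨g, hg, hgb⟩ := mem_ideal_span_monomial_image.1 (hle hβ) β (by simp [support_monomial])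
    exact ⟨g, hg, hgb⟩

theorem finite_compl_exps (hI : IsMonomial I) [Module.Finite k (S ⧸ I)] : (exps I)ᶜ.Finite := by
  classical
  have hli : LinearIndependent k
      (fun γ : ((exps I)ᶜ : Set (σ →₀ ℕ)) => Ideal.Quotient.mk I (monomial γ.1 (1 : k))) := by
    rw [linearIndependent_iff']
    intro t c h γ hγ
    have := congrArg (coef hI γ.1) h
    rw [map_sum, map_zero, Finset.sum_eq_single γ] at this
    · rwa [map_smul, coef_mono, if_pos ⟨rfl, γ.2⟩, smul_eq_mul, mul_one] at this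
    · intro b _ hb
      rw [map_smul, coef_mono, if_neg (fun h => hb (Subtype.ext h.1)), smul_zero]
    · intro h; exact absurd hγ h
  haveI := hli.finite_of_isNoetherian
  exact Set.toFinite _

theorem exists_single_mem (hI : IsMonomial I) [Module.Finite k (S ⧸ I)] (i : σ) :
    ∃ N : ℕ, Finsupp.single i N ∈ exps I := by
  by_contra h
  push_neg at h
  exact Set.infinite_univ ((finite_compl_exps hI).preimage
    (f := fun N => Finsupp.single i N) (Finsupp.single_injective i).injOn |>.subset fun N _ => h N)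

/-- `Hom(I, S/I)` is the sum of its pieces; only multidegrees `γ - g` occur. -/
theorem mem_iSup_tPiece (hI : IsMonomial I) [Module.Finite k (S ⧸ I)] (φ : Tgt I) :
    ∃ A : Finset (σ → ℤ), φ = ∑ α ∈ A, cmp hI φ α := by
  classical
  obtain ⟨G, hG, hgen⟩ := exists_gens hI
  let D := (finite_compl_exps hI).toFinset
  refine ⟨(D ×ˢ G).image (fun p => vec p.1 - vec p.2), tgt_ext hI fun β hβ => ?_⟩
  obtain ⟨g, hg, hle⟩ := hgen β hβ
  obtain ⟨δ, rfl⟩ := exists_add_of_le hle
  rw [app_add φ (hG hg) δ, app_add _ (hG hg) δ]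
  refine congrArg _ (eq_of_coef hI fun γ hγ => ?_)
  rw [app, app, LinearMap.sum_apply, map_sum, Finset.sum_eq_single (vec γ - vec g)]
  · show _ = coef hI γ (app (cmp hI φ _) (hG hg))
    rw [cmp, app_mkTgt, coef_pick hI φ _ (hG hg), if_pos (by abel)]
  · intro α _ hne
    show coef hI γ (app (cmp hI φ α) (hG hg)) = 0
    rw [cmp, app_mkTgt, coef_pick hI φ _ (hG hg), if_neg]
    intro h; apply hne; rw [h]; abel
  · intro h
    exact absurd (Finset.mem_image.2 ⟨(γ, g), Finset.mem_product.2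
      ⟨(finite_compl_exps hI).mem_toFinset.2 hγ, hg⟩, rfl⟩) h

/-- The multidegrees with nonzero piece span. -/
theorem iSup_tPiece_eq_top (hI : IsMonomial I) [Module.Finite k (S ⧸ I)] :
    (⨆ α, tPiece I α) = (⊤ : Submodule k (Tgt I)) := by
  refine eq_top_iff.2 fun φ _ => ?_
  obtain ⟨A, hA⟩ := mem_iSup_tPiece hI φ
  rw [hA]
  exact Submodule.sum_mem _ fun α _ => le_iSup (tPiece I) α (cmp_mem hI φ α)

theorem eq_zero_of_mem_tPiece (hI : IsMonomial I) {φ : Tgt I} {α : σ → ℤ} (h : φ ∈ tPiece I α)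
    (h0 : ∀ β (hβ : β ∈ exps I) γ, γ ∉ exps I → vec γ = vec β + α → coef hI γ (app φ hβ) = 0) :
    φ = 0 := by
  refine tgt_ext hI fun β hβ => eq_zero_of_coef hI fun γ hγ => by_contra fun hne => ?_
  exact hne (h0 β hβ γ hγ ((mem_tPiece hI).1 h β hβ γ hne))

end Groth.Agent.W4Hilb
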