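import Mathlib
import Groth.Agent.W4Hilb.Basic

/-! Socle maps, sign patterns, three-variable exponent vectors. -/

set_option autoImplicit false
set_option backward.isDefEq.respectTransparency false

namespace Groth.Agent.W4Hilb

open MvPolynomial W4c1hilbpn

universe u v
variable {σ : Type v} {k : Type u} [Field k] [Finite σ] {I : Ideal (MvPolynomial σ k)}

/-- Above every monomial outside a monomial ideal of finite colength there is a socle monomial. -/
theorem exists_socle_ge (hI : IsMonomial I) [Module.Finite k (MvPolynomial σ k ⧸ I)] {P : σ →₀ ℕ}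
    (hP : P ∉ exps I) : ∃ M, P ≤ M ∧ M ∉ exps I ∧ ∀ δ : σ →₀ ℕ, δ ≠ 0 → M + δ ∈ exps I := by
  have hs : ({M | M ∉ exps I ∧ P ≤ M} : Set (σ →₀ ℕ)).Finite :=
    (finite_compl_exps hI).subset fun M h => h.1
  obtain ⟨M, hM⟩ := hs.exists_maximal ⟨P, hP, le_rfl⟩
  refine ⟨M, hM.1.2, hM.1.1, fun δ hd => by_contra fun h => ?_⟩
  have := hM.2 (y := M + δ) ⟨h, hM.1.2.trans le_self_add⟩ le_self_add
  exact hd (le_antisymm (by simpa using this) zero_le)

/-- A minimal generator `g` and a socle monomial `M` give a nonzero piece negative exactly at `{i | M i < g i}`. -/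
theorem sigPiece_ne_bot_of_socle (hI : IsMonomial I) (g M : σ →₀ ℕ) (hgI : g ∈ exps I)
    (hg : ∀ h ∈ exps I, h ≤ g → h = g) (hMI : M ∉ exps I)
    (hM : ∀ δ : σ →₀ ℕ, δ ≠ 0 → M + δ ∈ exps I) (N : Set σ) (hN : ∀ i, i ∈ N ↔ M i < g i) :
    sigPiece I N ≠ ⊥ := by
  intro h
  have hmem : socleMap hI g M hg hM ∈ sigPiece I N :=
    le_iSup (fun α : {α : σ → ℤ // ∀ i, α i < 0 ↔ i ∈ N} => tPiece I α.1)
      ⟨vec M - vec g, fun i => by rw [hN]; simp [vec]⟩
      (socleMap_mem_tPiece hI g M hg hM (vec M - vec g) (by abel))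
  rw [h, Submodule.mem_bot] at hmem
  exact socleMap_ne_zero hI g M hgI hg hMI hM hmem

/-- Minimality from the immediate predecessors. -/
theorem minimal_of_pred {g : σ →₀ ℕ}
    (hp : ∀ i, 0 < g i → g - Finsupp.single i 1 ∉ exps I) : ∀ h ∈ exps I, h ≤ g → h = g := by
  intro h hh hle
  by_contra hne
  obtain ⟨i, hi⟩ : ∃ i, h i < g i := by
    by_contra hc
    push_neg at hc
    exact hne (le_antisymm hle fun i => hc i)
  refine hp i (by omega) (exps_of_le hh fun j => ?_)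
  rw [Finsupp.tsub_apply]
  have := hle j
  by_cases hj : j = i
  · subst hj; rw [Finsupp.single_eq_same]; omega
  · rw [Finsupp.single_eq_of_ne hj]; omega

@[simp] theorem e3_zero (a b c : ℕ) : e3 a b c 0 = a := rfl
@[simp] theorem e3_one (a b c : ℕ) : e3 a b c 1 = b := rfl
@[simp] theorem e3_two (a b c : ℕ) : e3 a b c 2 = c := rfl

theorem e3_le_iff {a b c : ℕ} {M : Fin 3 →₀ ℕ} : e3 a b c ≤ M ↔ a ≤ M 0 ∧ b ≤ M 1 ∧ c ≤ M 2 :=
  ⟨fun h => ⟨h 0, h 1, h 2⟩, fun h i => by fin_cases i <;> [exact h.1; exact h.2.1; exact h.2.2]⟩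

theorem le_e3_iff {a b c : ℕ} {M : Fin 3 →₀ ℕ} : M ≤ e3 a b c ↔ M 0 ≤ a ∧ M 1 ≤ b ∧ M 2 ≤ c :=
  ⟨fun h => ⟨h 0, h 1, h 2⟩, fun h i => by fin_cases i <;> [exact h.1; exact h.2.1; exact h.2.2]⟩

theorem e3_eta (M : Fin 3 →₀ ℕ) : e3 (M 0) (M 1) (M 2) = M :=
  Finsupp.ext fun i => by fin_cases i <;> rfl

theorem e3_ext {a b c : ℕ} {M : Fin 3 →₀ ℕ} (h0 : M 0 = a) (h1 : M 1 = b) (h2 : M 2 = c) : M = e3 a b c := by
  subst h0 h1 h2; exact (e3_eta M).symm

variable {J : Ideal (MvPolynomial (Fin 3) k)}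

theorem stable_move (hJ : IsStronglyStable J) {a b c a' b' c' : ℕ} (h : e3 a b c ∈ exps J) (i j : Fin 3)
    (hij : i < j) (hj : 0 < e3 a b c j)
    (e : e3 a b c - Finsupp.single j 1 + Finsupp.single i 1 = e3 a' b' c') : e3 a' b' c' ∈ exps J :=
  e ▸ hJ.2 _ h i j hij hj

theorem stable_yx (hJ : IsStronglyStable J) {a b c : ℕ} (h : e3 a (b + 1) c ∈ exps J) :
    e3 (a + 1) b c ∈ exps J :=
  stable_move hJ h 0 1 (by decide) (by simp) (e3_ext (by simp) (by simp) (by simp))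

theorem stable_zx (hJ : IsStronglyStable J) {a b c : ℕ} (h : e3 a b (c + 1) ∈ exps J) :
    e3 (a + 1) b c ∈ exps J :=
  stable_move hJ h 0 2 (by decide) (by simp) (e3_ext (by simp) (by simp) (by simp))

theorem stable_zy (hJ : IsStronglyStable J) {a b c : ℕ} (h : e3 a b (c + 1) ∈ exps J) :
    e3 a (b + 1) c ∈ exps J :=
  stable_move hJ h 1 2 (by decide) (by simp) (e3_ext (by simp) (by simp) (by simp))

theorem X_eq_monomial_e3_zero : (X 0 : MvPolynomial (Fin 3) k) = monomial (e3 1 0 0) 1 := by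
  rw [X, e3_ext (M := Finsupp.single (0 : Fin 3) 1) (a := 1) (b := 0) (c := 0) (by simp) (by simp) (by simp)]

end Groth.Agent.W4Hilb
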