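import Mathlib
import Groth.Agent.W4Hilb.Socle

/-!
Graded self-duality of `Ext_S(S/I, S/I)` for a monomial ideal of finite colength in three variables, by
linear algebra on the Koszul complex of commutators, and the identities between graded pieces of
`Hom_S(I, S/I)` it gives.
-/

set_option autoImplicit false
set_option backward.isDefEq.respectTransparency false

namespace Groth.Agent.W4Hilb.Dual

open MvPolynomial W4c1hilbpn

universe u
variable {k : Type u} [Field k] (I : Ideal (MvPolynomial (Fin 3) k)) (i : Fin 3)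

local notation "V" => MvPolynomial (Fin 3) k ⧸ I

/-- Exponents. -/
abbrev Ex := Fin 3 →₀ ℕ
/-- The monomials outside `I`. -/
abbrev Out := {γ : Ex // γ ∉ exps I}

/-- The unit exponents. -/
noncomputable abbrev e (v : Fin 3) : Ex := Finsupp.single v 1

/-- The two coordinates other than `i`. -/
def w (α : Fin 3 → ℤ) : ℤ × ℤ := (α (i + 1), α (i + 2))

/-- The two coordinates of an exponent other than `i`. -/
def wt (γ : Ex) : ℤ × ℤ := w i (vec γ)

theorem w_add (a b : Fin 3 → ℤ) : w i (a + b) = w i a + w i b := rfl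

theorem wt_add (γ δ : Ex) : wt i (γ + δ) = wt i γ + wt i δ := by rw [wt, vec_add]; rfl

theorem wt_e_self : wt i (e i) = 0 := by
  fin_cases i <;> simp [wt, w, vec, e]

theorem sum_wt_e : wt i (e i) + wt i (e (i + 1)) + wt i (e (i + 2)) = (1, 1) := by
  fin_cases i <;> simp [wt, w, vec, e]

theorem sum_wt_e' : wt i (e 0) + wt i (e 1) + wt i (e 2) = (1, 1) := by
  fin_cases i <;> simp [wt, w, vec, e]

theorem wt_pair (v : Fin 3) : wt i (e (v + 1)) + wt i (e (v + 2)) = (1, 1) - wt i (e v) := by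
  fin_cases i <;> fin_cases v <;> simp [wt, w, vec, e]

/-- The degree opposite to `g` under duality. -/
def op (P : ℤ × ℤ → Prop) : ℤ × ℤ → Prop := fun g => P (-g - (1, 1))

theorem op_op (P : ℤ × ℤ → Prop) : op (op P) = P := by
  funext g; simp [op]

variable (P : ℤ × ℤ → Prop)

/-- Entries of a linear endomorphism of degree in `P`. -/
abbrev I0 := {p : Out I × Out I // P (wt i p.2.1 - wt i p.1.1)}
/-- Entries of a triple of endomorphisms, the `v`-th of degree in `P + e_v`. -/
abbrev I1 := {p : Fin 3 × Out I × Out I // P (wt i p.2.2.1 - wt i p.2.1.1 - wt i (e p.1))}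
/-- Entries of the commutation relations. -/
abbrev I2 := {p : Fin 3 × Out I × Out I // P (wt i p.2.2.1 - wt i p.2.1.1 - ((1, 1) - wt i (e p.1)))}

/-- Monomials outside `I` of degree in `P`. -/
abbrev H0 := {γ : Out I // P (wt i γ.1)}

/-- The sum of the pieces of multidegree projecting to `P`. -/
noncomputable def W : Submodule k (Tgt I) := ⨆ α : {α : Fin 3 → ℤ // P (w i α)}, tPiece I α.1

variable {I i P}

theorem vec_sub_w {γ β : Ex} {α : Fin 3 → ℤ} (h : vec γ = vec β + α) : wt i γ - wt i β = w i α := by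
  rw [wt, wt, h, w_add, add_sub_cancel_left]

theorem mem_W (hI : IsMonomial I) [Module.Finite k V] {φ : Tgt I} :
    φ ∈ W I i P ↔ ∀ β (hβ : β ∈ exps I) γ, coef hI γ (app φ hβ) ≠ 0 → P (wt i γ - wt i β) := by
  classical
  constructor
  · intro h
    refine Submodule.iSup_induction _ (motive := fun φ => ∀ β (hβ : β ∈ exps I) γ,
      coef hI γ (app φ hβ) ≠ 0 → P (wt i γ - wt i β)) h ?_ ?_ ?_
    · intro α ψ hψ β hβ γ hne
      rw [vec_sub_w ((mem_tPiece hI).1 hψ β hβ γ hne)]
      exact α.2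
    · intro β hβ γ hne
      rw [app, LinearMap.zero_apply, map_zero] at hne
      exact absurd rfl hne
    · intro a b ha hb β hβ γ hne
      rw [app, LinearMap.add_apply, map_add] at hne
      by_cases h : coef hI γ (app a hβ) = 0
      · exact hb β hβ γ (fun h' => hne (by
          rw [show coef hI γ (a ⟨monomial β 1, _⟩) = 0 from h, show coef hI γ (b ⟨monomial β 1, _⟩) = 0 from h', add_zero]))
      · exact ha β hβ γ h
  · intro h
    obtain ⟨A, hA⟩ := mem_iSup_tPiece hI φ
    rw [hA]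
    refine Submodule.sum_mem _ fun α _ => ?_
    by_cases hα : P (w i α)
    · exact le_iSup (fun a : {a : Fin 3 → ℤ // P (w i a)} => tPiece I a.1) ⟨α, hα⟩ (cmp_mem hI φ α)
    · suffices h0 : cmp hI φ α = 0 by rw [h0]; exact Submodule.zero_mem _
      refine eq_zero_of_mem_tPiece hI (cmp_mem hI φ α) fun β hβ γ _ he => ?_
      rw [cmp, app_mkTgt, coef_pick hI φ α hβ, if_pos he]
      by_contra hne
      exact hα (vec_sub_w he ▸ h β hβ γ hne)

section
variable (hI : IsMonomial I) [Fintype (Out I)]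
include hI

theorem expand (q : V) : q = ∑ δ : Out I, coef hI δ.1 q • Ideal.Quotient.mk I (monomial δ.1 (1 : k)) := by
  classical
  refine eq_of_coef hI fun γ hγ => ?_
  rw [map_sum, Finset.sum_eq_single ⟨γ, hγ⟩]
  · rw [map_smul, coef_mono, if_pos ⟨rfl, hγ⟩, smul_eq_mul, mul_one]
  · intro b _ hb
    rw [map_smul, coef_mono, if_neg (fun h => hb (Subtype.ext h.1)), smul_zero]
  · intro h; exact absurd (Finset.mem_univ _) h

theorem linear_ext {M : Type u} [AddCommGroup M] [Module k M] {L L' : V →ₗ[k] M}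
    (h : ∀ γ, γ ∉ exps I → L (Ideal.Quotient.mk I (monomial γ (1 : k))) = L' (Ideal.Quotient.mk I (monomial γ (1 : k)))) :
    L = L' := by
  refine LinearMap.ext fun q => ?_
  rw [expand hI q, map_sum, map_sum]
  exact Finset.sum_congr rfl fun δ _ => by rw [map_smul, map_smul, h δ.1 δ.2]

open Classical in
/-- A function on entries, extended by zero. -/
noncomputable def ext (f : I1 I i P → k) (v : Fin 3) (γ γ' : Ex) : k :=
  if h : (γ ∉ exps I ∧ γ' ∉ exps I) ∧ P (wt i γ' - wt i γ - wt i (e v)) then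
    f ⟨(v, ⟨γ, h.1.1⟩, ⟨γ', h.1.2⟩), h.2⟩ else 0

omit hI [Fintype (Out I)] in
theorem ext_deg {f : I1 I i P → k} {v : Fin 3} {γ γ' : Ex} (h : ext f v γ γ' ≠ 0) :
    P (wt i γ' - wt i γ - wt i (e v)) := by
  by_contra hc
  exact h (dif_neg (fun h' => hc h'.2))

omit hI [Fintype (Out I)] in
theorem ext_out {f : I1 I i P → k} {v : Fin 3} {γ γ' : Ex} (h : γ ∈ exps I ∨ γ' ∈ exps I) : ext f v γ γ' = 0 :=
  dif_neg fun h' => h.elim h'.1.1 h'.1.2

/-- The column `γ` of the `v`-th endomorphism. -/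
noncomputable def tab (f : I1 I i P → k) (v : Fin 3) (γ : Ex) : V :=
  ∑ δ : Out I, ext f v γ δ.1 • Ideal.Quotient.mk I (monomial δ.1 (1 : k))

theorem coef_tab (f : I1 I i P → k) (v : Fin 3) (γ γ' : Ex) : coef hI γ' (tab f v γ) = ext f v γ γ' := by
  classical
  by_cases hγ' : γ' ∈ exps I
  · rw [coef_of_mem hI hγ', ext_out (Or.inr hγ')]
  · rw [tab, map_sum, Finset.sum_eq_single ⟨γ', hγ'⟩]
    · rw [map_smul, coef_mono, if_pos ⟨rfl, hγ'⟩, smul_eq_mul, mul_one]
    · intro b _ hb
      rw [map_smul, coef_mono, if_neg (fun h => hb (Subtype.ext h.1)), smul_zero]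
    · intro h; exact absurd (Finset.mem_univ _) h

omit hI in
theorem tab_out (f : I1 I i P → k) (v : Fin 3) {γ : Ex} (h : γ ∈ exps I) : tab f v γ = 0 :=
  Finset.sum_eq_zero fun δ _ => by rw [ext_out (Or.inl h), zero_smul]

/-- Multiplication by a variable. -/
noncomputable def Mx (v : Fin 3) : V →ₗ[k] V :=
  DistribSMul.toLinearMap k V (monomial (e v) (1 : k) : MvPolynomial (Fin 3) k)

omit hI [Fintype (Out I)] in
theorem Mx_apply (v : Fin 3) (q : V) : Mx v q = (monomial (e v) (1 : k) : MvPolynomial (Fin 3) k) • q := rfl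

omit hI [Fintype (Out I)] in
theorem Mx_mono (v : Fin 3) (γ : Ex) :
    Mx v (Ideal.Quotient.mk I (monomial γ (1 : k))) = Ideal.Quotient.mk I (monomial (γ + e v) (1 : k)) := by
  show Ideal.Quotient.mk I (monomial (e v) (1 : k) * monomial γ 1) = _
  rw [monomial_mul, one_mul, add_comm]

omit hI [Fintype (Out I)] in
theorem mono_zero {γ : Ex} (h : γ ∈ exps I) : Ideal.Quotient.mk I (monomial γ (1 : k)) = 0 :=
  Ideal.Quotient.eq_zero_iff_mem.2 h

omit [Fintype (Out I)] in
open Classical in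
theorem coef_Mx (v : Fin 3) (q : V) {γ : Ex} (hγ : γ ∉ exps I) :
    coef hI γ (Mx v q) = if e v ≤ γ then coef hI (γ - e v) q else 0 := by
  rw [Mx_apply, coef_monomial_smul hI _ _ _ hγ]

/-- The `v`-th endomorphism. -/
noncomputable def tabL (f : I1 I i P → k) (v : Fin 3) : V →ₗ[k] V :=
  ∑ δ : Out I, (coef hI δ.1).smulRight (tab f v δ.1)

theorem tabL_mono (f : I1 I i P → k) (v : Fin 3) (γ : Ex) :
    tabL hI f v (Ideal.Quotient.mk I (monomial γ (1 : k))) = tab f v γ := by
  classical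
  by_cases hγ : γ ∈ exps I
  · rw [mono_zero hγ, map_zero, tab_out f v hγ]
  · rw [tabL, LinearMap.sum_apply, Finset.sum_eq_single ⟨γ, hγ⟩]
    · rw [LinearMap.smulRight_apply, coef_mono, if_pos ⟨rfl, hγ⟩, one_smul]
    · intro b _ hb
      rw [LinearMap.smulRight_apply, coef_mono, if_neg (fun h => hb (Subtype.ext h.1.symm)), zero_smul]
    · intro h; exact absurd (Finset.mem_univ _) h

/-- The relation saying that `x_a` and `x_b` commute on the extension defined by `f`. -/
noncomputable def rel (f : I1 I i P → k) (a b : Fin 3) (γ : Ex) : V :=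
  Mx a (tab f b γ) + tab f a (γ + e b) - Mx b (tab f a γ) - tab f b (γ + e a)

open Classical in
/-- The matrix of the commutation relations. -/
noncomputable def K (p q : Fin 3 × Ex × Ex) : k :=
  (if q.1 = p.1 + 2 ∧ q.2.1 = p.2.1 ∧ q.2.2 + e (p.1 + 1) = p.2.2 then 1 else 0) -
    (if q.1 = p.1 + 2 ∧ q.2.2 = p.2.2 ∧ q.2.1 = p.2.1 + e (p.1 + 1) then 1 else 0) -
  ((if q.1 = p.1 + 1 ∧ q.2.1 = p.2.1 ∧ q.2.2 + e (p.1 + 2) = p.2.2 then 1 else 0) -
    (if q.1 = p.1 + 1 ∧ q.2.2 = p.2.2 ∧ q.2.1 = p.2.1 + e (p.1 + 2) then 1 else 0))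

omit hI [Fintype (Out I)] in
theorem K_symm (v u : Fin 3) (γ γ' δ δ' : Ex) :
    K (k := k) (v, γ, γ') (u, δ, δ') = K (u, δ', δ) (v, γ', γ) := by
  by_cases h1 : u = v + 1
  · subst h1
    have a : v + 1 + 2 = v := by fin_cases v <;> rfl
    have b : v + 1 + 1 = v + 2 := by fin_cases v <;> rfl
    have c : v + 1 ≠ v + 2 := by fin_cases v <;> decide
    have d : v ≠ v + 2 := by fin_cases v <;> decide
    simp only [K, a, b, c, d, true_and, false_and, if_false, zero_sub, sub_zero, sub_self, neg_sub]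
    congr 1 <;> refine if_congr ?_ rfl rfl
    · exact ⟨fun h => ⟨h.1.symm, h.2.symm⟩, fun h => ⟨h.1.symm, h.2.symm⟩⟩
    · exact ⟨fun h => ⟨h.1.symm, h.2.symm⟩, fun h => ⟨h.1.symm, h.2.symm⟩⟩
  · by_cases h2 : u = v + 2
    · subst h2
      have a : v + 2 + 1 = v := by fin_cases v <;> rfl
      have b : v + 2 + 2 = v + 1 := by fin_cases v <;> rfl
      have c : v + 2 ≠ v + 1 := by fin_cases v <;> decide
      have d : v ≠ v + 1 := by fin_cases v <;> decide
      simp only [K, a, b, c, d, true_and, false_and, if_false, zero_sub, sub_zero, sub_self, neg_sub]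
      congr 1 <;> refine if_congr ?_ rfl rfl
      · exact ⟨fun h => ⟨h.1.symm, h.2.symm⟩, fun h => ⟨h.1.symm, h.2.symm⟩⟩
      · exact ⟨fun h => ⟨h.1.symm, h.2.symm⟩, fun h => ⟨h.1.symm, h.2.symm⟩⟩
    · have h3 : ¬ v = u + 1 ∧ ¬ v = u + 2 := by revert h1 h2; revert u v; decide
      simp [K, h1, h2, h3.1, h3.2]

/-- The matrix of commutation relations in the given degrees. -/
noncomputable def mat (P : ℤ × ℤ → Prop) : Matrix (I2 I i P) (I1 I i P) k := fun p q =>
  K (p.1.1, p.1.2.1.1, p.1.2.2.1) (q.1.1, q.1.2.1.1, q.1.2.2.1)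

noncomputable instance fintypeI0 : Fintype (I0 I i P) := Fintype.ofFinite _
noncomputable instance fintypeI1 : Fintype (I1 I i P) := Fintype.ofFinite _
noncomputable instance fintypeI2 : Fintype (I2 I i P) := Fintype.ofFinite _
noncomputable instance fintypeH0 : Fintype (H0 I i P) := Fintype.ofFinite _

/-- Duality exchanges relations and unknowns. -/
def swap (P : ℤ × ℤ → Prop) : I1 I i (op P) ≃ I2 I i P where
  toFun p := ⟨(p.1.1, p.1.2.2, p.1.2.1), by
    have h := p.2
    simp only [op] at h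
    convert h using 1
    abel⟩
  invFun p := ⟨(p.1.1, p.1.2.2, p.1.2.1), by
    have h := p.2
    show P _
    convert h using 1
    abel⟩
  left_inv p := rfl
  right_inv p := rfl

/-- Duality exchanges unknowns and relations. -/
def swap' (P : ℤ × ℤ → Prop) : I2 I i (op P) ≃ I1 I i P where
  toFun p := ⟨(p.1.1, p.1.2.2, p.1.2.1), by
    have h := p.2
    simp only [op] at h
    convert h using 1
    abel⟩
  invFun p := ⟨(p.1.1, p.1.2.2, p.1.2.1), by
    have h := p.2
    show P _
    convert h using 1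
    abel⟩
  left_inv p := rfl
  right_inv p := rfl

omit hI in
theorem rank_mat_op (P : ℤ × ℤ → Prop) : (mat (I := I) (i := i) (op P)).rank = (mat (I := I) (i := i) P).rank := by
  have e : mat (I := I) (i := i) (op P) = (mat (I := I) (i := i) P).transpose.submatrix (swap' P) (swap P) := by
    funext p q
    exact K_symm _ _ _ _ _ _
  rw [e, Matrix.rank_submatrix, Matrix.rank_transpose]

omit hI in
open Classical in
theorem sum_entry (f : I1 I i P → k) (a : Fin 3) (γ γ' : Ex) :
    ∑ q : I1 I i P, (if q.1.1 = a ∧ q.1.2.1.1 = γ ∧ q.1.2.2.1 = γ' then f q else 0) = ext f a γ γ' := by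
  by_cases h : (γ ∉ exps I ∧ γ' ∉ exps I) ∧ P (wt i γ' - wt i γ - wt i (e a))
  · rw [ext, dif_pos h, Finset.sum_eq_single ⟨(a, ⟨γ, h.1.1⟩, ⟨γ', h.1.2⟩), h.2⟩]
    · rw [if_pos ⟨rfl, rfl, rfl⟩]
    · intro b _ hb
      refine if_neg fun hc => hb (Subtype.ext (Prod.ext hc.1 (Prod.ext (Subtype.ext hc.2.1) (Subtype.ext hc.2.2))))
    · intro hn; exact absurd (Finset.mem_univ _) hn
  · rw [ext, dif_neg h]
    refine Finset.sum_eq_zero fun q _ => if_neg fun hc => h ?_
    obtain ⟨h1, h2, h3⟩ := hc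
    subst h1 h2 h3
    exact ⟨⟨q.1.2.1.2, q.1.2.2.2⟩, q.2⟩

theorem mulVec_mat (f : I1 I i P → k) (p : I2 I i P) :
    (mat P).mulVec f p = coef hI p.1.2.2.1 (rel f (p.1.1 + 1) (p.1.1 + 2) p.1.2.1.1) := by
  classical
  obtain ⟨⟨v, ⟨γ, hγ⟩, ⟨γ', hγ'⟩⟩, hp⟩ := p
  have low : ∀ (b a : Fin 3), ∑ q : I1 I i P,
      (if q.1.1 = a ∧ q.1.2.1.1 = γ ∧ q.1.2.2.1 + e b = γ' then (1 : k) else 0) * f q = coef hI γ' (Mx b (tab f a γ)) := by
    intro b a
    rw [coef_Mx hI b _ hγ', coef_tab]
    by_cases hle : e b ≤ γ'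
    · rw [if_pos hle, ← sum_entry f a γ (γ' - e b)]
      refine Finset.sum_congr rfl fun q _ => ?_
      rw [ite_mul, one_mul, zero_mul]
      refine if_congr (and_congr_right fun _ => and_congr_right fun _ => ?_) rfl rfl
      exact ⟨fun h => by rw [← h, add_tsub_cancel_right], fun h => by rw [h, tsub_add_cancel_of_le hle]⟩
    · rw [if_neg hle]
      refine Finset.sum_eq_zero fun q _ => ?_
      rw [if_neg, zero_mul]
      exact fun h => hle (h.2.2 ▸ le_add_self)
  have high : ∀ (b a : Fin 3), ∑ q : I1 I i P,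
      (if q.1.1 = a ∧ q.1.2.2.1 = γ' ∧ q.1.2.1.1 = γ + e b then (1 : k) else 0) * f q = coef hI γ' (tab f a (γ + e b)) := by
    intro b a
    rw [coef_tab, ← sum_entry f a (γ + e b) γ']
    refine Finset.sum_congr rfl fun q _ => ?_
    rw [ite_mul, one_mul, zero_mul]
    exact if_congr ⟨fun h => ⟨h.1, h.2.2, h.2.1⟩, fun h => ⟨h.1, h.2.2, h.2.1⟩⟩ rfl rfl
  show ∑ q : I1 I i P, K (v, γ, γ') (q.1.1, q.1.2.1.1, q.1.2.2.1) * f q = _
  simp only [K, sub_mul, Finset.sum_sub_distrib, low, high]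
  rw [rel, map_sub, map_sub, map_add]
  ring

theorem mulVec_eq_zero_iff (f : I1 I i P → k) :
    (mat P).mulVec f = 0 ↔ ∀ (v : Fin 3) (γ : Ex), γ ∉ exps I → rel f (v + 1) (v + 2) γ = 0 := by
  classical
  constructor
  · intro h v γ hγ
    refine eq_zero_of_coef hI fun γ' hγ' => ?_
    by_cases hp : P (wt i γ' - wt i γ - ((1, 1) - wt i (e v)))
    · have h' := congrFun h ⟨(v, ⟨γ, hγ⟩, ⟨γ', hγ'⟩), hp⟩
      rw [mulVec_mat hI] at h'
      exact h'
    · rw [← wt_pair i v] at hp
      have z1 : ∀ (a b : Fin 3), wt i (e b) + wt i (e a) = wt i (e (v + 1)) + wt i (e (v + 2)) →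
          coef hI γ' (Mx b (tab f a γ)) = 0 ∧ coef hI γ' (tab f a (γ + e b)) = 0 := by
        intro a b hab
        constructor
        · rw [coef_Mx hI b _ hγ']
          split_ifs with hle
          · rw [coef_tab]
            by_contra hne
            have h1 := ext_deg hne
            refine hp ?_
            convert h1 using 1
            have h2 : wt i γ' = wt i (γ' - e b) + wt i (e b) := by rw [← wt_add, tsub_add_cancel_of_le hle]
            rw [h2, ← hab]; abel
          · rfl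
        · rw [coef_tab]
          by_contra hne
          have h1 := ext_deg hne
          refine hp ?_
          convert h1 using 1
          rw [wt_add, ← hab]; abel
      rw [rel, map_sub, map_sub, map_add, (z1 (v + 2) (v + 1) rfl).1, (z1 (v + 1) (v + 2) (add_comm _ _)).2,
        (z1 (v + 1) (v + 2) (add_comm _ _)).1, (z1 (v + 2) (v + 1) rfl).2]
      simp
  · intro h
    funext p
    rw [mulVec_mat hI, h p.1.1 p.1.2.1.1 p.1.2.1.2, map_zero]
    rfl

/-- An endomorphism column from entries in degree `P`. -/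
noncomputable def tab0 (B : I0 I i P → k) (γ : Ex) : V :=
  ∑ δ : Out I, (by classical exact if h : γ ∉ exps I ∧ P (wt i δ.1 - wt i γ) then B ⟨(⟨γ, h.1⟩, δ), h.2⟩ else 0 : k) •
    Ideal.Quotient.mk I (monomial δ.1 (1 : k))

open Classical in
theorem coef_tab0 (B : I0 I i P → k) (γ : Ex) {γ' : Ex} (hγ' : γ' ∉ exps I) :
    coef hI γ' (tab0 B γ) = if h : γ ∉ exps I ∧ P (wt i γ' - wt i γ) then B ⟨(⟨γ, h.1⟩, ⟨γ', hγ'⟩), h.2⟩ else 0 := by
  rw [tab0, map_sum, Finset.sum_eq_single ⟨γ', hγ'⟩]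
  · rw [map_smul, coef_mono, if_pos ⟨rfl, hγ'⟩, smul_eq_mul, mul_one]
  · intro b _ hb
    rw [map_smul, coef_mono, if_neg (fun h => hb (Subtype.ext h.1)), smul_zero]
  · intro h; exact absurd (Finset.mem_univ _) h

theorem tab0_deg (B : I0 I i P → k) {γ γ' : Ex} (h : coef hI γ' (tab0 B γ) ≠ 0) : P (wt i γ' - wt i γ) := by
  classical
  by_cases hγ' : γ' ∈ exps I
  · rw [coef_of_mem hI hγ'] at h; exact absurd rfl h
  · by_contra hc
    rw [coef_tab0 hI B γ hγ', dif_neg (fun h' => hc h'.2)] at h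
    exact h rfl

omit hI in
theorem tab0_out (B : I0 I i P → k) {γ : Ex} (h : γ ∈ exps I) : tab0 B γ = 0 :=
  Finset.sum_eq_zero fun δ _ => by rw [dif_neg (fun h' => h'.1 h), zero_smul]

/-- The commutator with the three variables. -/
noncomputable def d0 : (I0 I i P → k) →ₗ[k] (I1 I i P → k) where
  toFun B p := coef hI p.1.2.2.1 (Mx p.1.1 (tab0 B p.1.2.1.1) - tab0 B (p.1.2.1.1 + e p.1.1))
  map_add' B B' := funext fun p => by
    have h : ∀ γ, tab0 (B + B') γ = tab0 B γ + tab0 B' γ := fun γ => by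
      rw [tab0, tab0, tab0, ← Finset.sum_add_distrib]
      exact Finset.sum_congr rfl fun δ _ => by split_ifs <;> simp [add_smul]
    simp only [h, map_add, map_sub, Pi.add_apply]
    ring
  map_smul' c B := funext fun p => by
    have h : ∀ γ, tab0 (c • B) γ = c • tab0 B γ := fun γ => by
      rw [tab0, tab0, Finset.smul_sum]
      exact Finset.sum_congr rfl fun δ _ => by split_ifs <;> simp [smul_smul]
    simp only [h, map_smul, map_sub, Pi.smul_apply, RingHom.id_apply, smul_eq_mul]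
    ring

theorem tab_d0 (B : I0 I i P → k) (v : Fin 3) {γ : Ex} (hγ : γ ∉ exps I) :
    tab (d0 hI B) v γ = Mx v (tab0 B γ) - tab0 B (γ + e v) := by
  classical
  refine eq_of_coef hI fun γ' hγ' => ?_
  rw [coef_tab]
  by_cases hd : P (wt i γ' - wt i γ - wt i (e v))
  · rw [ext, dif_pos ⟨⟨hγ, hγ'⟩, hd⟩]; rfl
  · rw [ext, dif_neg (fun h => hd h.2), map_sub, coef_Mx hI v _ hγ']
    have z2 : coef hI γ' (tab0 B (γ + e v)) = 0 := by_contra fun hne => hd (by
      have := tab0_deg hI B hne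
      convert this using 1
      rw [wt_add]; abel)
    rw [z2, sub_zero]
    split_ifs with hle
    · symm
      by_contra hne
      refine hd ?_
      have := tab0_deg hI B hne
      convert this using 1
      have h2 : wt i γ' = wt i (γ' - e v) + wt i (e v) := by rw [← wt_add, tsub_add_cancel_of_le hle]
      rw [h2]; abel
    · rfl

open Classical in
/-- A map out of `I`, extended by zero to all monomials. -/
noncomputable def G (φ : Tgt I) (β : Ex) : V := if h : β ∈ exps I then app φ h else 0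

omit hI [Fintype (Out I)] in
theorem G_mem (φ : Tgt I) {β : Ex} (h : β ∈ exps I) : G φ β = app φ h := dif_pos h

omit hI [Fintype (Out I)] in
theorem G_succ (φ : Tgt I) {β : Ex} (h : β ∈ exps I) (v : Fin 3) : G φ (β + e v) = Mx v (G φ β) := by
  rw [G_mem φ (exps_add h _), G_mem φ h, app_add φ h (e v), Mx_apply]

omit hI in
theorem exp_induction {motive : Ex → Prop} (h0 : motive 0) (hs : ∀ β v, motive β → motive (β + e v)) : ∀ β, motive β := by
  intro β
  induction hd : β.degree using Nat.strong_induction_on generalizing β with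
  | _ d ih =>
    by_cases hβ : β = 0
    · rw [hβ]; exact h0
    · obtain ⟨v, hv⟩ : ∃ v, β v ≠ 0 := by
        by_contra hc
        push_neg at hc
        exact hβ (Finsupp.ext hc)
      have hle : e v ≤ β := Finsupp.single_le_iff.2 (Nat.one_le_iff_ne_zero.2 hv)
      rw [← tsub_add_cancel_of_le hle]
      refine hs _ v (ih _ ?_ _ rfl)
      have h2 : β.degree = (β - e v).degree + (e v).degree := by rw [← map_add, tsub_add_cancel_of_le hle]
      rw [Finsupp.degree_single] at h2
      omega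

/-- The derivation cocycle of a map out of `I`. -/
noncomputable def psi : ↥(W I i P) →ₗ[k] (I1 I i P → k) where
  toFun φ p := coef hI p.1.2.2.1 (G φ.1 (p.1.2.1.1 + e p.1.1))
  map_add' φ ψ := funext fun p => by
    show coef hI _ (G (φ.1 + ψ.1) _) = coef hI _ (G φ.1 _) + coef hI _ (G ψ.1 _)
    unfold G
    split_ifs with h
    · rw [app, LinearMap.add_apply, map_add]
    · simp
  map_smul' c φ := funext fun p => by
    show coef hI _ (G (c • φ.1) _) = c • coef hI _ (G φ.1 _)
    unfold G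
    split_ifs with h
    · rw [app, LinearMap.smul_apply, map_smul]
    · simp

theorem tab_psi [Module.Finite k V] (φ : ↥(W I i P)) (v : Fin 3) {γ : Ex} (hγ : γ ∉ exps I) :
    tab (psi hI φ) v γ = G φ.1 (γ + e v) := by
  classical
  refine eq_of_coef hI fun γ' hγ' => ?_
  rw [coef_tab]
  by_cases hd : P (wt i γ' - wt i γ - wt i (e v))
  · rw [ext, dif_pos ⟨⟨hγ, hγ'⟩, hd⟩]; rfl
  · rw [ext, dif_neg (fun h => hd h.2)]
    by_cases hm : γ + e v ∈ exps I
    · rw [G_mem φ.1 hm]
      symm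
      by_contra hne
      refine hd ?_
      have := (mem_W hI).1 φ.2 _ hm γ' hne
      convert this using 1
      rw [wt_add]; abel
    · rw [G, dif_neg hm, map_zero]

theorem rel_psi [Module.Finite k V] (φ : ↥(W I i P)) (a b : Fin 3) {γ : Ex} (hγ : γ ∉ exps I) :
    rel (psi hI φ) a b γ = 0 := by
  classical
  rw [rel, tab_psi hI φ b hγ, tab_psi hI φ a hγ]
  by_cases hb : γ + e b ∈ exps I <;> by_cases ha : γ + e a ∈ exps I
  · rw [tab_out _ _ hb, tab_out _ _ ha, ← G_succ φ.1 hb a, ← G_succ φ.1 ha b, add_right_comm γ (e b) (e a)]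
    simp
  · rw [tab_out _ _ hb, tab_psi hI φ b ha, ← G_succ φ.1 hb a, G, G, G, dif_neg ha, map_zero, add_right_comm γ (e b) (e a)]
    simp
  · rw [tab_out _ _ ha, tab_psi hI φ a hb, ← G_succ φ.1 ha b, G, G, G, dif_neg hb, map_zero, add_right_comm γ (e a) (e b)]
    simp
  · rw [tab_psi hI φ a hb, tab_psi hI φ b ha, G, G, G, G, dif_neg hb, dif_neg ha, map_zero, map_zero,
      add_right_comm γ (e b) (e a)]
    simp

theorem tab_add (f f' : I1 I i P → k) (v : Fin 3) (γ : Ex) : tab (f + f') v γ = tab f v γ + tab f' v γ :=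
  eq_of_coef hI fun γ' _ => by
    rw [map_add, coef_tab, coef_tab, coef_tab]
    unfold ext
    split_ifs <;> simp

theorem rel_add (f f' : I1 I i P → k) (a b : Fin 3) (γ : Ex) : rel (f + f') a b γ = rel f a b γ + rel f' a b γ := by
  simp only [rel, tab_add hI, map_add]
  abel

theorem rel_d0 (B : I0 I i P → k) (a b : Fin 3) {γ : Ex} (hγ : γ ∉ exps I) : rel (d0 hI B) a b γ = 0 := by
  classical
  have key : ∀ (v : Fin 3) (δ : Ex), tab (d0 hI B) v δ = if δ ∈ exps I then 0 else Mx v (tab0 B δ) - tab0 B (δ + e v) := by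
    intro v δ
    split_ifs with h
    · exact tab_out _ _ h
    · exact tab_d0 hI B v h
  have comm : ∀ q : V, Mx a (Mx b q) = Mx b (Mx a q) := fun q => by
    rw [Mx_apply, Mx_apply, Mx_apply, Mx_apply, smul_smul, smul_smul, mul_comm]
  have out : ∀ (δ : Ex) (v : Fin 3), δ ∈ exps I → tab0 B (δ + e v) = 0 := fun δ v h => tab0_out B (exps_add h _)
  rw [rel, key, key, key, key, if_neg hγ, if_neg hγ]
  by_cases hb : γ + e b ∈ exps I <;> by_cases ha : γ + e a ∈ exps I
  · simp [hb, ha, comm, tab0_out B hb, tab0_out B ha]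
  · simp only [if_pos hb, if_neg ha, tab0_out B hb, map_sub, map_zero, comm]
    rw [show γ + e a + e b = γ + e b + e a from add_right_comm _ _ _, out _ a hb]
    abel
  · simp only [if_neg hb, if_pos ha, tab0_out B ha, map_sub, map_zero, comm]
    rw [show γ + e b + e a = γ + e a + e b from add_right_comm _ _ _, out _ b ha]
    abel
  · simp only [if_neg hb, if_neg ha, map_sub, comm]
    rw [show γ + e b + e a = γ + e a + e b from add_right_comm _ _ _]
    abel

/-- The operator of `x_v` on the extension defined by `f`. -/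
noncomputable def Op (f : I1 I i P → k) (v : Fin 3) : Module.End k (V × V) :=
  ((Mx v).comp (LinearMap.fst k V V)).prod
    ((tabL hI f v).comp (LinearMap.fst k V V) + (Mx v).comp (LinearMap.snd k V V))

theorem op_commute (f : I1 I i P → k) (hf : (mat P).mulVec f = 0) (a b : Fin 3) : Commute (Op hI f a) (Op hI f b) := by
  have key : ∀ v : Fin 3, Commute (Op hI f (v + 1)) (Op hI f (v + 2)) := by
    intro v
    have h1 : (Mx (v + 1)).comp (tabL hI f (v + 2)) + (tabL hI f (v + 1)).comp (Mx (v + 2)) =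
        (Mx (v + 2)).comp (tabL hI f (v + 1)) + (tabL hI f (v + 2)).comp (Mx (v + 1)) := by
      refine linear_ext hI fun γ hγ => ?_
      have h := (mulVec_eq_zero_iff hI f).1 hf v γ hγ
      simp only [LinearMap.add_apply, LinearMap.comp_apply, Mx_mono, tabL_mono hI]
      rw [rel, sub_sub, sub_eq_zero] at h
      exact h
    refine LinearMap.ext fun q => ?_
    have comm : ∀ x : V, Mx (v + 1) (Mx (v + 2) x) = Mx (v + 2) (Mx (v + 1) x) := fun x => by
      rw [Mx_apply, Mx_apply, Mx_apply, Mx_apply, smul_smul, smul_smul, mul_comm]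
    have h2 := LinearMap.congr_fun h1 q.1
    simp only [LinearMap.add_apply, LinearMap.comp_apply] at h2
    refine Prod.ext (comm q.1) ?_
    show tabL hI f (v + 1) (Mx (v + 2) q.1) + Mx (v + 1) (tabL hI f (v + 2) q.1 + Mx (v + 2) q.2) =
      tabL hI f (v + 2) (Mx (v + 1) q.1) + Mx (v + 2) (tabL hI f (v + 1) q.1 + Mx (v + 1) q.2)
    rw [map_add, map_add, comm q.2, ← add_assoc, ← add_assoc, add_comm (tabL hI f (v + 1) _), h2,
      add_comm (Mx (v + 2) _) (tabL hI f (v + 2) _)]
  by_cases h : a = b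
  · subst h; exact Commute.refl _
  · obtain ⟨v, ⟨rfl, rfl⟩ | ⟨rfl, rfl⟩⟩ : ∃ v : Fin 3, (a = v + 1 ∧ b = v + 2) ∨ (b = v + 1 ∧ a = v + 2) := by
      revert h; revert a b; decide
    · exact key v
    · exact (key v).symm

/-- The product of the operators along an exponent. -/
noncomputable def Pw (f : I1 I i P → k) (β : Ex) : Module.End k (V × V) :=
  Op hI f 0 ^ β 0 * (Op hI f 1 ^ β 1 * Op hI f 2 ^ β 2)

theorem Pw_succ (f : I1 I i P → k) (hf : (mat P).mulVec f = 0) (β : Ex) (v : Fin 3) :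
    Pw hI f (β + e v) = Op hI f v * Pw hI f β := by
  have c := op_commute hI f hf
  fin_cases v
  · simp [Pw, e, pow_succ', mul_assoc]
  · simp only [Pw, e, Finsupp.add_apply]
    simp [pow_succ', ← mul_assoc, ((c 0 1).pow_left (β 0)).eq]
  · simp only [Pw, e, Finsupp.add_apply]
    simp only [Fin.isValue, Finsupp.single_eq_of_ne (show (0 : Fin 3) ≠ 2 by decide),
      Finsupp.single_eq_of_ne (show (1 : Fin 3) ≠ 2 by decide), Finsupp.single_eq_same, add_zero, pow_succ', Fin.reduceFinMk]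
    rw [← mul_assoc (Op hI f 2), ((c 2 0).pow_right (β 0)).eq, mul_assoc _ (Op hI f 2),
      ← mul_assoc (Op hI f 2), ((c 2 1).pow_right (β 1)).eq, mul_assoc _ (Op hI f 2)]

/-- The image of `x^β · 1` in the extension. -/
noncomputable def F (f : I1 I i P → k) (β : Ex) : V × V :=
  Pw hI f β (Ideal.Quotient.mk I (monomial 0 (1 : k)), 0)

theorem F_zero (f : I1 I i P → k) : F hI f 0 = (Ideal.Quotient.mk I (monomial 0 (1 : k)), 0) := by
  simp [F, Pw]

theorem F_succ (f : I1 I i P → k) (hf : (mat P).mulVec f = 0) (β : Ex) (v : Fin 3) :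
    F hI f (β + e v) = Op hI f v (F hI f β) := by
  rw [F, Pw_succ hI f hf]; rfl

theorem F_fst (f : I1 I i P → k) (hf : (mat P).mulVec f = 0) :
    ∀ β, (F hI f β).1 = Ideal.Quotient.mk I (monomial β (1 : k)) := by
  refine exp_induction (by rw [F_zero]) fun β v h => ?_
  rw [F_succ hI f hf]
  show Mx v (F hI f β).1 = _
  rw [h, Mx_mono]

theorem F_snd (f : I1 I i P → k) (hf : (mat P).mulVec f = 0) (β : Ex) (v : Fin 3) :
    (F hI f (β + e v)).2 = tab f v β + Mx v (F hI f β).2 := by
  rw [F_succ hI f hf]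
  show tabL hI f v (F hI f β).1 + _ = _
  rw [F_fst hI f hf, tabL_mono]
  rfl

theorem F_deg (f : I1 I i P → k) (hf : (mat P).mulVec f = 0) :
    ∀ β γ', coef hI γ' (F hI f β).2 ≠ 0 → P (wt i γ' - wt i β) := by
  classical
  refine exp_induction (fun γ' h => ?_) fun β v ih γ' h => ?_
  · rw [F_zero] at h; simp at h
  · rw [F_snd hI f hf, map_add, coef_tab] at h
    by_cases hx : ext f v β γ' = 0
    · rw [hx, zero_add] at h
      have hγ' : γ' ∉ exps I := fun hm => h (coef_of_mem hI hm _)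
      rw [coef_Mx hI v _ hγ'] at h
      split_ifs at h with hle
      · have := ih _ h
        convert this using 1
        have h2 : wt i γ' = wt i (γ' - e v) + wt i (e v) := by rw [← wt_add, tsub_add_cancel_of_le hle]
        rw [wt_add, h2]; abel
      · exact absurd rfl h
    · have := ext_deg hx
      convert this using 1
      rw [wt_add]; abel

theorem F_smul (f : I1 I i P → k) (hf : (mat P).mulVec f = 0) {β : Ex} (hβ : β ∈ exps I) :
    ∀ δ, (F hI f (β + δ)).2 = (monomial δ (1 : k) : MvPolynomial (Fin 3) k) • (F hI f β).2 := by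
  refine exp_induction (by rw [add_zero, monomial_zero', map_one, one_smul]) fun δ v ih => ?_
  rw [← add_assoc, F_snd hI f hf, tab_out f v (exps_add hβ δ), zero_add, ih, Mx_apply, smul_smul, monomial_mul, one_mul,
    add_comm (e v) δ]

/-- Every cocycle comes from a map out of `I` up to a commutator. -/
theorem exists_of_cocycle [Module.Finite k V] (f : I1 I i P → k) (hf : (mat P).mulVec f = 0) :
    ∃ (φ : ↥(W I i P)) (B : I0 I i P → k), psi hI φ + d0 hI B = f := by
  classical
  let φ0 : Tgt I := mkTgt hI (fun β => (F hI f β).2) (fun β δ hβ => F_smul hI f hf hβ δ)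
  have hφ : ∀ β (hβ : β ∈ exps I), app φ0 hβ = (F hI f β).2 := fun β hβ => app_mkTgt hI _ _ hβ
  let φ : ↥(W I i P) := ⟨φ0, (mem_W hI).2 fun β hβ γ hne => F_deg hI f hf β γ (by rwa [hφ] at hne)⟩
  let B : I0 I i P → k := fun p => - coef hI p.1.2.1 (F hI f p.1.1.1).2
  have hB : ∀ γ, γ ∉ exps I → tab0 B γ = - (F hI f γ).2 := fun γ hγ => eq_of_coef hI fun γ' hγ' => by
    rw [coef_tab0 hI B γ hγ', map_neg]
    split_ifs with h
    · rfl
    · rw [eq_comm, neg_eq_zero]
      by_contra hne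
      exact h ⟨hγ, F_deg hI f hf γ γ' hne⟩
  refine ⟨φ, B, funext fun p => ?_⟩
  obtain ⟨⟨v, ⟨γ, hγ⟩, ⟨γ', hγ'⟩⟩, hp⟩ := p
  show coef hI γ' (G φ0 (γ + e v)) + coef hI γ' (Mx v (tab0 B γ) - tab0 B (γ + e v)) = f _
  have hfe : f ⟨(v, ⟨γ, hγ⟩, ⟨γ', hγ'⟩), hp⟩ = coef hI γ' (tab f v γ) := by
    rw [coef_tab, ext, dif_pos ⟨⟨hγ, hγ'⟩, hp⟩]
  rw [hfe, ← map_add]
  congr 1
  rw [hB γ hγ, map_neg]
  by_cases hm : γ + e v ∈ exps I
  · rw [G_mem φ0 hm, hφ, F_snd hI f hf, tab0_out B hm]
    abel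
  · rw [G, dif_neg hm, hB _ hm, F_snd hI f hf]
    abel

theorem tab0_eq_pow [Module.Finite k V] (φ : ↥(W I i P)) (B : I0 I i P → k) (h : psi hI φ + d0 hI B = 0) :
    ∀ γ, γ ∉ exps I → tab0 B γ = (monomial γ (1 : k) : MvPolynomial (Fin 3) k) • tab0 B 0 := by
  have key : ∀ (v : Fin 3) (γ : Ex), γ ∉ exps I → G φ.1 (γ + e v) + (Mx v (tab0 B γ) - tab0 B (γ + e v)) = 0 := by
    intro v γ hγ
    rw [← tab_psi hI φ v hγ, ← tab_d0 hI B v hγ, ← tab_add hI, h]
    exact eq_zero_of_coef hI fun γ' _ => by rw [coef_tab]; unfold ext; split_ifs <;> rfl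
  refine exp_induction (fun _ => by rw [monomial_zero', map_one, one_smul]) fun γ v ih hm => ?_
  have hγ : γ ∉ exps I := fun h => hm (exps_add h _)
  have h1 := key v γ hγ
  rw [G, dif_neg hm, zero_add, sub_eq_zero] at h1
  rw [← h1, ih hγ, Mx_apply, smul_smul, monomial_mul, one_mul, add_comm (e v) γ]

theorem eq_zero_of_psi [Module.Finite k V] (φ : ↥(W I i P)) (B : I0 I i P → k) (h : psi hI φ + d0 hI B = 0) : φ = 0 := by
  classical
  refine Subtype.ext (tgt_ext hI fun β hβ => ?_)
  show app φ.1 hβ = app (0 : Tgt I) hβ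
  obtain ⟨g, hg, hle, hmin⟩ := exists_minimal_le hβ
  obtain ⟨δ, rfl⟩ := exists_add_of_le hle
  suffices h0 : app φ.1 hg = 0 by rw [app_add φ.1 hg δ, h0, smul_zero]; rfl
  by_cases hg0 : g = 0
  · subst hg0
    exact eq_zero_of_coef hI fun γ hγ => absurd (exps_of_le hg zero_le) hγ
  · obtain ⟨v, hv⟩ : ∃ v, g v ≠ 0 := by
      by_contra hc
      push_neg at hc
      exact hg0 (Finsupp.ext hc)
    have hle' : e v ≤ g := Finsupp.single_le_iff.2 (Nat.one_le_iff_ne_zero.2 hv)
    have hγ : g - e v ∉ exps I := fun hm => by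
      have := congrArg (fun x : Ex => x v) (hmin _ hm tsub_le_self)
      simp [e] at this
      omega
    have h1 : G φ.1 (g - e v + e v) + (Mx v (tab0 B (g - e v)) - tab0 B (g - e v + e v)) = 0 := by
      rw [← tab_psi hI φ v hγ, ← tab_d0 hI B v hγ, ← tab_add hI, h]
      exact eq_zero_of_coef hI fun γ' _ => by rw [coef_tab]; unfold ext; split_ifs <;> rfl
    rw [tsub_add_cancel_of_le hle', G_mem φ.1 hg, tab0_out B hg, sub_zero, tab0_eq_pow hI φ B h _ hγ, Mx_apply,
      smul_smul, monomial_mul, one_mul, add_comm (e v), tsub_add_cancel_of_le hle'] at h1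
    rw [show (monomial g (1 : k) : MvPolynomial (Fin 3) k) • tab0 B 0 = 0 from eq_zero_of_coef hI fun γ hγ' => by
      rw [coef_monomial_smul hI _ _ _ hγ', if_neg (fun hle'' => hγ' (exps_of_le hg hle''))], add_zero] at h1
    exact h1

/-- The kernel of the commutator is the part of `S/I` of degree in `P`. -/
theorem finrank_ker_d0 [Module.Finite k V] :
    Module.finrank k ↥(LinearMap.ker (d0 (i := i) (P := P) hI)) = Nat.card (H0 I i P) := by
  classical
  have hzero : ∀ γ : H0 I i P, (0 : Ex) ∉ exps I := fun γ hm => γ.1.2 (exps_of_le hm zero_le)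
  let Θ : ↥(LinearMap.ker (d0 (i := i) (P := P) hI)) →ₗ[k] (H0 I i P → k) :=
    { toFun := fun B γ => coef hI γ.1.1 (tab0 B.1 0)
      map_add' := fun B B' => funext fun γ => by
        show coef hI γ.1.1 (tab0 (B.1 + B'.1) 0) = coef hI γ.1.1 (tab0 B.1 0) + coef hI γ.1.1 (tab0 B'.1 0)
        rw [coef_tab0 hI (B.1 + B'.1) 0 γ.1.2, coef_tab0 hI B.1 0 γ.1.2, coef_tab0 hI B'.1 0 γ.1.2]
        split_ifs <;> simp
      map_smul' := fun c B => funext fun γ => by
        show coef hI γ.1.1 (tab0 (c • B.1) 0) = c • coef hI γ.1.1 (tab0 B.1 0)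
        rw [coef_tab0 hI (c • B.1) 0 γ.1.2, coef_tab0 hI B.1 0 γ.1.2]
        split_ifs <;> simp }
  have pw : ∀ (B : ↥(LinearMap.ker (d0 (i := i) (P := P) hI))) γ, γ ∉ exps I →
      tab0 B.1 γ = (monomial γ (1 : k) : MvPolynomial (Fin 3) k) • tab0 B.1 0 := fun B => by
    refine tab0_eq_pow hI 0 B.1 ?_
    rw [map_zero, zero_add]; exact B.2
  have inj : Function.Injective Θ := by
    intro B B' h
    have h0 : tab0 B.1 0 = tab0 B'.1 0 := eq_of_coef hI fun γ hγ => by
      by_cases hP : P (wt i γ)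
      · exact congrFun h ⟨⟨γ, hγ⟩, hP⟩
      · have z : ∀ C : I0 I i P → k, coef hI γ (tab0 C 0) = 0 := fun C => by_contra fun hne => hP (by
          have := tab0_deg hI C hne
          convert this using 1
          simp [wt, w, vec])
        rw [z, z]
    refine Subtype.ext (funext fun p => ?_)
    have e1 : ∀ C : I0 I i P → k, C p = coef hI p.1.2.1 (tab0 C p.1.1.1) := fun C => by
      rw [coef_tab0 hI C _ p.1.2.2, dif_pos ⟨p.1.1.2, p.2⟩]
    rw [e1 B.1, e1 B'.1, pw B _ p.1.1.2, pw B' _ p.1.1.2, h0]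
  have surj : Function.Surjective Θ := by
    intro t
    let q : V := ∑ δ : H0 I i P, t δ • Ideal.Quotient.mk I (monomial δ.1.1 (1 : k))
    have hq : ∀ γ, γ ∉ exps I → coef hI γ q ≠ 0 → P (wt i γ) := fun γ hγ hne => by
      by_contra hP
      refine hne ?_
      rw [map_sum]
      refine Finset.sum_eq_zero fun δ _ => ?_
      rw [map_smul, coef_mono, if_neg, smul_zero]
      intro h
      exact hP (h.1 ▸ δ.2)
    let B : I0 I i P → k := fun p => coef hI p.1.2.1 ((monomial p.1.1.1 (1 : k) : MvPolynomial (Fin 3) k) • q)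
    have hB : ∀ γ, γ ∉ exps I → tab0 B γ = (monomial γ (1 : k) : MvPolynomial (Fin 3) k) • q := fun γ hγ =>
      eq_of_coef hI fun γ' hγ' => by
        rw [coef_tab0 hI B γ hγ']
        split_ifs with h
        · rfl
        · symm
          by_contra hne
          rw [coef_monomial_smul hI _ _ _ hγ'] at hne
          split_ifs at hne with hle
          · refine h ⟨hγ, ?_⟩
            have := hq _ (not_exps_of_le hγ' tsub_le_self) hne
            convert this using 1
            have h2 : wt i γ' = wt i (γ' - γ) + wt i γ := by rw [← wt_add, tsub_add_cancel_of_le hle]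
            rw [h2]; abel
          · exact hne rfl
    have hker : d0 hI B = 0 := funext fun p => by
      obtain ⟨⟨v, ⟨γ, hγ⟩, ⟨γ', hγ'⟩⟩, hp⟩ := p
      show coef hI γ' (Mx v (tab0 B γ) - tab0 B (γ + e v)) = 0
      rw [hB γ hγ, Mx_apply, smul_smul, monomial_mul, one_mul, add_comm (e v) γ]
      by_cases hm : γ + e v ∈ exps I
      · rw [tab0_out B hm, sub_zero, coef_monomial_smul hI _ _ _ hγ', if_neg]
        exact fun hle => hγ' (exps_of_le hm hle)
      · rw [hB _ hm, sub_self, map_zero]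
    refine ⟨⟨B, hker⟩, funext fun γ => ?_⟩
    show coef hI γ.1.1 (tab0 B 0) = t γ
    rw [hB 0 (hzero γ), monomial_zero', map_one, one_smul, map_sum, Finset.sum_eq_single γ]
    · rw [map_smul, coef_mono, if_pos ⟨rfl, γ.1.2⟩, smul_eq_mul, mul_one]
    · intro b _ hb
      rw [map_smul, coef_mono, if_neg (fun h => hb (Subtype.ext (Subtype.ext h.1))), smul_zero]
    · intro h; exact absurd (Finset.mem_univ _) h
  rw [(LinearEquiv.ofBijective Θ ⟨inj, surj⟩).finrank_eq, Module.finrank_fintype_fun_eq_card, Nat.card_eq_fintype_card]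

theorem finite_W [Module.Finite k V] : Module.Finite k ↥(W I i P) := by
  refine Module.Finite.of_injective (psi hI) fun φ ψ h => sub_eq_zero.1 (eq_zero_of_psi hI (φ - ψ) 0 ?_)
  rw [map_zero, add_zero]
  have h2 := map_add (psi hI) (φ - ψ) ψ
  rw [show φ - ψ + ψ = φ from Subtype.ext (sub_add_cancel φ.1 ψ.1), h] at h2
  simpa using h2

/-- `Hom(I, S/I)` in degrees `P` as a count. -/
theorem card_eq [Module.Finite k V] :
    Nat.card (I1 I i P) + Nat.card (H0 I i P) =
      Module.finrank k ↥(W I i P) + Nat.card (I0 I i P) + (mat (I := I) (i := i) P).rank := by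
  classical
  haveI := finite_W (i := i) (P := P) hI
  let Φ := (psi (i := i) (P := P) hI).coprod (d0 hI)
  have hrange : LinearMap.range Φ = LinearMap.ker (mat (I := I) (i := i) P).mulVecLin := by
    refine le_antisymm ?_ fun f hf => ?_
    · rintro _ ⟨⟨φ, B⟩, rfl⟩
      refine (mulVec_eq_zero_iff hI _).2 fun v γ hγ => ?_
      show rel (psi hI φ + d0 hI B) _ _ γ = 0
      rw [rel_add hI, rel_psi hI φ _ _ hγ, rel_d0 hI B _ _ hγ, add_zero]
    · obtain ⟨φ, B, h⟩ := exists_of_cocycle hI f hf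
      exact ⟨(φ, B), h⟩
  have hker : Module.finrank k ↥(LinearMap.ker Φ) = Nat.card (H0 I i P) := by
    rw [← finrank_ker_d0 hI]
    refine LinearEquiv.finrank_eq (LinearEquiv.ofBijective
      ({ toFun := fun x => ⟨x.1.2, by
          obtain ⟨⟨φ, B⟩, hx⟩ := x
          have h0 := eq_zero_of_psi hI φ B hx
          subst h0
          have hx' : psi hI 0 + d0 hI B = 0 := hx
          rw [map_zero, zero_add] at hx'
          exact hx'⟩
         map_add' := fun _ _ => rfl
         map_smul' := fun _ _ => rfl } : ↥(LinearMap.ker Φ) →ₗ[k] ↥(LinearMap.ker (d0 (i := i) (P := P) hI))) ⟨?_, ?_⟩)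
    · rintro ⟨⟨φ, B⟩, hx⟩ ⟨⟨φ', B'⟩, hx'⟩ h
      have e1 := eq_zero_of_psi hI φ B hx
      have e2 := eq_zero_of_psi hI φ' B' hx'
      have e3 : B = B' := congrArg Subtype.val h
      subst e1 e2 e3
      rfl
    · intro B
      refine ⟨⟨((0 : ↥(W I i P)), B.1), ?_⟩, rfl⟩
      show psi hI 0 + d0 hI B.1 = 0
      rw [map_zero, zero_add]; exact B.2
  have h1 : Module.finrank k ↥(LinearMap.range Φ) + Module.finrank k ↥(LinearMap.ker Φ) =
      Module.finrank k (↥(W I i P) × (I0 I i P → k)) :=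
    @LinearMap.finrank_range_add_finrank_ker k (↥(W I i P) × (I0 I i P → k)) inferInstance inferInstance inferInstance
      (I1 I i P → k) inferInstance inferInstance inferInstance Φ
  haveI : Module.Free k ↥(W I i P) :=
    @Module.Free.of_divisionRing k ↥(W I i P) inferInstance inferInstance inferInstance
  rw [hker, hrange, Module.finrank_prod, Module.finrank_fintype_fun_eq_card] at h1
  have h2 := LinearMap.finrank_range_add_finrank_ker (mat (I := I) (i := i) P).mulVecLin
  rw [Module.finrank_fintype_fun_eq_card] at h2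
  simp only [Nat.card_eq_fintype_card] at h1 ⊢
  rw [Matrix.rank]
  omega

omit hI [Fintype (Out I)] in
theorem card_split {X : Type} [Finite X] (Q : Fin 3 → X → Prop) :
    Nat.card {p : Fin 3 × X // Q p.1 p.2} = Nat.card {x // Q 0 x} + Nat.card {x // Q 1 x} + Nat.card {x // Q 2 x} := by
  have e : {p : Fin 3 × X // Q p.1 p.2} ≃ Σ v : Fin 3, {x // Q v x} :=
    { toFun := fun p => ⟨p.1.1, p.1.2, p.2⟩
      invFun := fun s => ⟨(s.1, s.2.1), s.2.2⟩
      left_inv := fun p => rfl
      right_inv := fun s => rfl }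
  rw [Nat.card_congr e, Nat.card_sigma, Fin.sum_univ_three]

/-- **The duality identity.** -/
theorem finrank_W_add [Module.Finite k V] (P : ℤ × ℤ → Prop) :
    Module.finrank k ↥(W I i P) + Nat.card (H0 I i (op P)) =
      Module.finrank k ↥(W I i (op P)) + Nat.card (H0 I i P) := by
  have a := card_eq (i := i) (P := P) hI
  have b := card_eq (i := i) (P := op P) hI
  rw [rank_mat_op] at b
  let cnt : ℤ × ℤ → ℕ := fun s => Nat.card {x : Out I × Out I // P (wt i x.2.1 - wt i x.1.1 - s)}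
  have m0 : Nat.card (I0 I i P) = cnt 0 := Nat.card_congr (Equiv.subtypeEquivRight fun x => by rw [sub_zero])
  have m3 : Nat.card (I0 I i (op P)) = cnt (1, 1) := by
    refine Nat.card_congr (Equiv.subtypeEquiv (Equiv.prodComm _ _) fun x => ?_)
    simp only [op, Equiv.prodComm_apply, Prod.fst_swap, Prod.snd_swap, neg_sub]
  have m1 : Nat.card (I1 I i P) = cnt (wt i (e 0)) + cnt (wt i (e 1)) + cnt (wt i (e 2)) :=
    card_split (fun v (x : Out I × Out I) => P (wt i x.2.1 - wt i x.1.1 - wt i (e v)))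
  have m2 : Nat.card (I1 I i (op P)) =
      cnt ((1, 1) - wt i (e 0)) + cnt ((1, 1) - wt i (e 1)) + cnt ((1, 1) - wt i (e 2)) := by
    rw [Nat.card_congr (swap P)]
    exact card_split (fun v (x : Out I × Out I) => P (wt i x.2.1 - wt i x.1.1 - ((1, 1) - wt i (e v))))
  have h : cnt (wt i (e 0)) + cnt (wt i (e 1)) + cnt (wt i (e 2)) + cnt (1, 1) =
      cnt ((1, 1) - wt i (e 0)) + cnt ((1, 1) - wt i (e 1)) + cnt ((1, 1) - wt i (e 2)) + cnt 0 := by
    fin_cases i <;> simp [wt, w, vec, e, Prod.mk_sub_mk, Prod.mk_zero_zero] <;> ring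
  omega

end

end Groth.Agent.W4Hilb.Dual
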