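import Mathlib
import Groth.Agent.W4Hilb.Dual

/-! Sums of multigraded pieces of `Hom_S(I, S/I)` selected by a condition on the multidegree. -/

set_option autoImplicit false
set_option backward.isDefEq.respectTransparency false

namespace Groth.Agent.W4Hilb

open MvPolynomial W4c1hilbpn

universe u
variable {k : Type u} [Field k] {I : Ideal (MvPolynomial (Fin 3) k)}

local notation "V" => MvPolynomial (Fin 3) k ⧸ I

/-- The sum of the pieces whose multidegree satisfies `Q`. -/
noncomputable def U (I : Ideal (MvPolynomial (Fin 3) k)) (Q : (Fin 3 → ℤ) → Prop) : Submodule k (Tgt I) :=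
  ⨆ α : {α : Fin 3 → ℤ // Q α}, tPiece I α.1

theorem le_U {Q : (Fin 3 → ℤ) → Prop} {α : Fin 3 → ℤ} (h : Q α) : tPiece I α ≤ U I Q :=
  le_iSup (fun a : {α : Fin 3 → ℤ // Q α} => tPiece I a.1) ⟨α, h⟩

theorem mem_U (hI : IsMonomial I) [Module.Finite k V] {Q : (Fin 3 → ℤ) → Prop} {φ : Tgt I} :
    φ ∈ U I Q ↔ ∀ β (hβ : β ∈ exps I) γ, coef hI γ (app φ hβ) ≠ 0 → Q (vec γ - vec β) := by
  classical
  constructor
  · intro h
    refine Submodule.iSup_induction _ (motive := fun φ => ∀ β (hβ : β ∈ exps I) γ,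
      coef hI γ (app φ hβ) ≠ 0 → Q (vec γ - vec β)) h ?_ ?_ ?_
    · intro α ψ hψ β hβ γ hne
      rw [(mem_tPiece hI).1 hψ β hβ γ hne, add_sub_cancel_left]
      exact α.2
    · intro β hβ γ hne
      rw [app, LinearMap.zero_apply, map_zero] at hne
      exact absurd rfl hne
    · intro a b ha hb β hβ γ hne
      rw [app, LinearMap.add_apply, map_add] at hne
      by_cases h : coef hI γ (app a hβ) = 0
      · exact hb β hβ γ (fun h' => hne (by
          rw [show coef hI γ (a ⟨monomial β 1, _⟩) = 0 from h, show coef hI γ (b ⟨monomial β 1, _⟩) = 0 from h', add_zero]))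
      · exact ha β hβ γ h
  · intro h
    obtain ⟨A, hA⟩ := mem_iSup_tPiece hI φ
    rw [hA]
    refine Submodule.sum_mem _ fun α _ => ?_
    by_cases hα : Q α
    · exact le_U hα (cmp_mem hI φ α)
    · suffices h0 : cmp hI φ α = 0 by rw [h0]; exact Submodule.zero_mem _
      refine eq_zero_of_mem_tPiece hI (cmp_mem hI φ α) fun β hβ γ _ he => ?_
      rw [cmp, app_mkTgt, coef_pick hI φ α hβ, if_pos he]
      by_contra hne
      have := h β hβ γ hne
      rw [he, add_sub_cancel_left] at this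
      exact hα this

theorem U_congr {Q R : (Fin 3 → ℤ) → Prop} (h : ∀ α, tPiece I α ≠ ⊥ → (Q α ↔ R α)) : U I Q = U I R := by
  refine le_antisymm (iSup_le fun α => ?_) (iSup_le fun α => ?_)
  · by_cases hb : tPiece I α.1 = ⊥
    · rw [hb]; exact bot_le
    · exact le_U ((h _ hb).1 α.2)
  · by_cases hb : tPiece I α.1 = ⊥
    · rw [hb]; exact bot_le
    · exact le_U ((h _ hb).2 α.2)

theorem finite_out (hI : IsMonomial I) [Module.Finite k V] : Finite (Dual.Out I) :=
  (finite_compl_exps hI).to_subtype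

theorem finite_tgt (hI : IsMonomial I) [Module.Finite k V] : Module.Finite k (Tgt I) := by
  haveI := finite_out hI
  letI := Fintype.ofFinite (Dual.Out I)
  haveI := Dual.finite_W (i := 0) (P := fun _ => True) hI
  have e : Dual.W I 0 (fun _ => True) = ⊤ := by
    refine eq_top_iff.2 ?_
    rw [← iSup_tPiece_eq_top hI]
    exact iSup_le fun α => le_iSup (fun a : {α : Fin 3 → ℤ // True} => tPiece I a.1) ⟨α, trivial⟩
  exact Module.Finite.equiv (LinearEquiv.ofTop _ e)

theorem finrank_quot (hI : IsMonomial I) [Module.Finite k V] :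
    Module.finrank k V = Nat.card (Dual.Out I) := by
  classical
  haveI := finite_out hI
  letI := Fintype.ofFinite (Dual.Out I)
  let Θ : V →ₗ[k] (Dual.Out I → k) := LinearMap.pi fun δ => coef hI δ.1
  have h : Function.Bijective Θ := by
    refine ⟨fun a b hab => eq_of_coef hI fun γ hγ => congrFun hab ⟨γ, hγ⟩, fun t => ?_⟩
    refine ⟨∑ δ : Dual.Out I, t δ • Ideal.Quotient.mk I (monomial δ.1 (1 : k)), funext fun γ => ?_⟩
    show coef hI γ.1 _ = t γ
    rw [map_sum, Finset.sum_eq_single γ]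
    · rw [map_smul, coef_mono, if_pos ⟨rfl, γ.2⟩, smul_eq_mul, mul_one]
    · intro b _ hb
      rw [map_smul, coef_mono, if_neg (fun h => hb (Subtype.ext h.1)), smul_zero]
    · intro h; exact absurd (Finset.mem_univ _) h
  rw [(LinearEquiv.ofBijective Θ h).finrank_eq, Module.finrank_fintype_fun_eq_card, Nat.card_eq_fintype_card]

theorem finrank_U_split (hI : IsMonomial I) [Module.Finite k V] (Q R : (Fin 3 → ℤ) → Prop) :
    Module.finrank k ↥(U I Q) =
      Module.finrank k ↥(U I fun α => Q α ∧ R α) + Module.finrank k ↥(U I fun α => Q α ∧ ¬ R α) := by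
  classical
  haveI := finite_tgt hI
  rw [← Submodule.finrank_sup_add_finrank_inf_eq]
  have e1 : (U I fun α => Q α ∧ R α) ⊔ (U I fun α => Q α ∧ ¬ R α) = U I Q := by
    refine le_antisymm (sup_le ?_ ?_) (iSup_le fun α => ?_)
    · exact iSup_le fun α => le_U α.2.1
    · exact iSup_le fun α => le_U α.2.1
    · by_cases h : R α.1
      · exact le_sup_of_le_left (le_U ⟨α.2, h⟩)
      · exact le_sup_of_le_right (le_U ⟨α.2, h⟩)
  have e2 : (U I fun α => Q α ∧ R α) ⊓ (U I fun α => Q α ∧ ¬ R α) = ⊥ := by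
    refine (Submodule.eq_bot_iff _).2 fun φ hφ => tgt_ext hI fun β hβ => eq_of_coef hI fun γ _ => ?_
    obtain ⟨h1, h2⟩ := Submodule.mem_inf.1 hφ
    by_contra hne
    have hne' : coef hI γ (app φ hβ) ≠ 0 := fun h0 => hne (by
      show coef hI γ (app φ hβ) = coef hI γ (app (0 : Tgt I) hβ)
      rw [h0, show app (0 : Tgt I) hβ = 0 from rfl, map_zero])
    exact ((mem_U hI).1 h2 β hβ γ hne').2 ((mem_U hI).1 h1 β hβ γ hne').2
  rw [e1, e2, finrank_bot, add_zero]

end Groth.Agent.W4Hilb
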