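import Mathlib
import Groth.Agent.W4Hilb.Socle

/-! `Hom_S(m^r, S/m^r)`: it is `Hom_k(S_r, S_{r-1})`, multidegree by multidegree. -/

set_option autoImplicit false
set_option backward.isDefEq.respectTransparency false

namespace Groth.Agent.W4Hilb

open MvPolynomial W4c1hilbpn

universe u
variable {σ : Type} [Fintype σ] {k : Type u} [Field k]

/-- `m^r`. -/
noncomputable abbrev mPow (σ : Type) (k : Type u) [Field k] (r : ℕ) : Ideal (MvPolynomial σ k) :=
  (Ideal.span (Set.range (X : σ → MvPolynomial σ k))) ^ r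

theorem mem_exps_mPow {r : ℕ} {β : σ →₀ ℕ} : β ∈ exps (mPow σ k r) ↔ r ≤ β.degree :=
  monomial_mem_pow_idealOfVars_iff r β one_ne_zero

theorem mPow_isMonomial (r : ℕ) : IsMonomial (mPow σ k r) := fun p hp β hβ =>
  mem_exps_mPow.2 ((mem_pow_idealOfVars_iff r p).1 hp β hβ)

theorem degree_add' (a b : σ →₀ ℕ) : (a + b).degree = a.degree + b.degree := map_add Finsupp.degree a b

theorem degree_pos {δ : σ →₀ ℕ} (h : δ ≠ 0) : 0 < δ.degree := by
  rw [Finsupp.degree_eq_sum]
  by_contra h0
  exact h (Finsupp.ext fun i => Finset.sum_eq_zero_iff.1 (Nat.eq_zero_of_not_pos h0) i (Finset.mem_univ i))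

theorem degree_le_of_le {a b : σ →₀ ℕ} (h : a ≤ b) : a.degree ≤ b.degree := by
  obtain ⟨c, rfl⟩ := exists_add_of_le h; rw [degree_add']; omega

theorem exists_degree_eq_le (β : σ →₀ ℕ) {r : ℕ} (h : r ≤ β.degree) : ∃ g, g ≤ β ∧ g.degree = r := by
  induction hd : β.degree using Nat.strong_induction_on generalizing β with
  | _ d ih =>
    rcases h.eq_or_lt with he | hlt
    · exact ⟨β, le_rfl, he.symm⟩
    · have hne : β ≠ 0 := by rintro rfl; simp at hlt
      obtain ⟨i, hi⟩ : ∃ i, β i ≠ 0 := by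
        by_contra hc
        push_neg at hc
        exact hne (Finsupp.ext hc)
      have hle : Finsupp.single i 1 ≤ β := Finsupp.single_le_iff.2 (Nat.one_le_iff_ne_zero.2 hi)
      have hdeg : (β - Finsupp.single i 1).degree + 1 = β.degree := by
        conv_rhs => rw [← tsub_add_cancel_of_le hle]
        rw [degree_add', Finsupp.degree_single]
      obtain ⟨g, hg, hgr⟩ := ih _ (by omega) (β - Finsupp.single i 1) (by omega) rfl
      exact ⟨g, hg.trans tsub_le_self, hgr⟩

theorem minimal_deg {r : ℕ} {g : σ →₀ ℕ} (hg : g.degree = r) :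
    ∀ h ∈ exps (mPow σ k r), h ≤ g → h = g := fun h hh hle => by
  obtain ⟨c, rfl⟩ := exists_add_of_le hle
  have := mem_exps_mPow.1 hh
  rw [degree_add'] at hg
  by_cases hc : c = 0
  · simp [hc]
  · have := degree_pos hc; omega

theorem socle_deg {r : ℕ} {M : σ →₀ ℕ} (hM : M.degree + 1 = r) :
    ∀ δ : σ →₀ ℕ, δ ≠ 0 → M + δ ∈ exps (mPow σ k r) := fun δ hd => by
  rw [mem_exps_mPow, degree_add']
  have := degree_pos hd; omega

theorem mPow_ext {r : ℕ} {φ ψ : Tgt (mPow σ k r)}
    (h : ∀ (g : σ →₀ ℕ) (hg : g.degree = r), app φ (mem_exps_mPow.2 hg.ge) = app ψ (mem_exps_mPow.2 hg.ge)) : φ = ψ := by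
  refine tgt_ext (mPow_isMonomial r) fun β hβ => ?_
  obtain ⟨g, hgβ, hg⟩ := exists_degree_eq_le β (mem_exps_mPow.1 hβ)
  obtain ⟨δ, rfl⟩ := exists_add_of_le hgβ
  rw [app_add φ (mem_exps_mPow.2 hg.ge) δ, app_add ψ (mem_exps_mPow.2 hg.ge) δ, h g hg]

/-- In a multidegree of total degree `≠ -1` the piece vanishes. -/
theorem tPiece_mPow_eq_zero [Nontrivial σ] {r : ℕ} {α : σ → ℤ} (hs : ∑ i, α i ≠ -1)
    {φ : Tgt (mPow σ k r)} (hφ : φ ∈ tPiece (mPow σ k r) α) : φ = 0 := by
  classical
  have hI := mPow_isMonomial (σ := σ) (k := k) r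
  have deg : ∀ (g : σ →₀ ℕ) (hg : g.degree = r) γ, γ ∉ exps (mPow σ k r) →
      coef hI γ (app φ (mem_exps_mPow.2 hg.ge)) ≠ 0 → (∀ i, (γ i : ℤ) = g i + α i) ∧ γ.degree + 2 ≤ r := by
    intro g hg γ hγ hne
    have hv : ∀ i, (γ i : ℤ) = g i + α i := congrFun ((mem_tPiece hI).1 hφ g _ γ hne)
    have hd : (γ.degree : ℤ) = r + ∑ i, α i := by
      rw [← hg, Finsupp.degree_eq_sum, Finsupp.degree_eq_sum, Nat.cast_sum, Nat.cast_sum, ← Finset.sum_add_distrib]
      exact Finset.sum_congr rfl fun i _ => hv i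
    rw [mem_exps_mPow] at hγ
    exact ⟨hv, by omega⟩
  by_cases hl : ∃ l, α l < 0
  · obtain ⟨l, hl⟩ := hl
    obtain ⟨i, hi⟩ := exists_ne l
    suffices ∀ b (g : σ →₀ ℕ) (hg : g.degree = r), g l ≤ b → app φ (mem_exps_mPow.2 hg.ge) = 0 from
      mPow_ext fun g hg => this (g l) g hg le_rfl
    intro b
    induction b with
    | zero =>
      intro g hg hb
      refine eq_zero_of_coef hI fun γ hγ => by_contra fun hne => ?_
      have := (deg g hg γ hγ hne).1 l
      omega
    | succ b ih =>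
      intro g hg hb
      refine eq_zero_of_coef hI fun γ hγ => by_contra fun hne => ?_
      obtain ⟨hv, hd⟩ := deg g hg γ hγ hne
      have hgl : 0 < g l := by have := hv l; omega
      have e1 : g - Finsupp.single l 1 + Finsupp.single l 1 = g :=
        tsub_add_cancel_of_le (Finsupp.single_le_iff.2 hgl)
      let g' := g - Finsupp.single l 1 + Finsupp.single i 1
      have hg' : g'.degree = r := by
        rw [← hg]; conv_rhs => rw [← e1]
        simp only [g', degree_add', Finsupp.degree_single]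
      have he : g' + Finsupp.single l 1 = g + Finsupp.single i 1 := by
        show g - Finsupp.single l 1 + Finsupp.single i 1 + Finsupp.single l 1 = _
        rw [add_right_comm, e1]
      have h0 := ih g' hg' (by
        show (g - Finsupp.single l 1 + Finsupp.single i 1 : σ →₀ ℕ) l ≤ b
        rw [Finsupp.add_apply, Finsupp.tsub_apply, Finsupp.single_eq_same, Finsupp.single_eq_of_ne hi.symm]; omega)
      have h2 : app φ (exps_add (mem_exps_mPow.2 hg.ge) (Finsupp.single i 1)) = 0 :=
        (app_congr φ he.symm _).trans (by rw [app_add φ (mem_exps_mPow.2 hg'.ge) (Finsupp.single l 1), h0, smul_zero])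
      rw [app_add φ (mem_exps_mPow.2 hg.ge) (Finsupp.single i 1)] at h2
      have hγ' : γ + Finsupp.single i 1 ∉ exps (mPow σ k r) := by
        rw [mem_exps_mPow, degree_add', Finsupp.degree_single]; omega
      exact hne (by rw [← coef_smul_shift hI (Finsupp.single i 1) γ _ hγ', h2, map_zero])
  · push_neg at hl
    refine mPow_ext fun g hg => eq_zero_of_coef hI fun γ hγ => by_contra fun hne => ?_
    obtain ⟨hv, hd⟩ := deg g hg γ hγ hne
    have : g ≤ γ := fun i => by have := hv i; have := hl i; omega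
    have := degree_le_of_le this
    omega

/-- Pairs of a degree `r` exponent and a degree `r - 1` exponent. -/
abbrev Pairs (σ : Type) [Fintype σ] (r : ℕ) : Type :=
  {p : (σ →₀ ℕ) × (σ →₀ ℕ) // p.1.degree = r ∧ p.2.degree + 1 = r}

/-- The multidegree of a pair. -/
def dif {r : ℕ} (p : Pairs σ r) : σ → ℤ := vec p.1.2 - vec p.1.1

instance finite_pairs (r : ℕ) : Finite (Pairs σ r) := by
  have : ∀ p : Pairs σ r, ∀ i, p.1.1 i ≤ r ∧ p.1.2 i ≤ r := fun p i => by
    constructor
    · exact le_trans (Finsupp.le_degree i p.1.1) p.2.1.le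
    · have := Finsupp.le_degree i p.1.2; have := p.2.2; omega
  refine Finite.of_injective (fun p : Pairs σ r => fun i =>
    ((⟨p.1.1 i, Nat.lt_succ_of_le (this p i).1⟩ : Fin (r + 1)), (⟨p.1.2 i, Nat.lt_succ_of_le (this p i).2⟩ : Fin (r + 1))))
    fun p q h => Subtype.ext (Prod.ext (Finsupp.ext fun i => ?_) (Finsupp.ext fun i => ?_))
  · exact congrArg Fin.val (congrArg Prod.fst (congrFun h i))
  · exact congrArg Fin.val (congrArg Prod.snd (congrFun h i))

theorem finrank_iSup_tPiece_mPow [Nontrivial σ] (r : ℕ) (P : (σ → ℤ) → Prop) :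
    Module.finrank k ↥(⨆ α : {α : σ → ℤ // P α}, tPiece (mPow σ k r) α.1) =
      Nat.card {p : Pairs σ r // P (dif p)} := by
  classical
  have hI := mPow_isMonomial (σ := σ) (k := k) r
  haveI : Fintype {p : Pairs σ r // P (dif p)} := Fintype.ofFinite _
  set W := (⨆ α : {α : σ → ℤ // P α}, tPiece (mPow σ k r) α.1)
  let Θ : ↥W →ₗ[k] ({p : Pairs σ r // P (dif p)} → k) :=
    { toFun := fun φ p => coef hI p.1.1.2 (app φ.1 (mem_exps_mPow.2 p.1.2.1.ge))
      map_add' := fun φ ψ => funext fun p => by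
        show coef hI _ (app (φ.1 + ψ.1) _) = _ + _
        rw [app, LinearMap.add_apply, map_add]
      map_smul' := fun c φ => funext fun p => by
        show coef hI _ (app (c • φ.1) _) = c • _
        rw [app, LinearMap.smul_apply, map_smul] }
  have supp : ∀ φ ∈ W, ∀ (g : σ →₀ ℕ) (hg : g.degree = r) γ, γ ∉ exps (mPow σ k r) →
      coef hI γ (app φ (mem_exps_mPow.2 hg.ge)) ≠ 0 → γ.degree + 1 = r ∧ P (vec γ - vec g) := by
    intro φ hφ
    refine Submodule.iSup_induction _ (motive := fun φ => ∀ (g : σ →₀ ℕ) (hg : g.degree = r) γ, γ ∉ exps (mPow σ k r) →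
      coef hI γ (app φ (mem_exps_mPow.2 hg.ge)) ≠ 0 → γ.degree + 1 = r ∧ P (vec γ - vec g)) hφ ?_ ?_ ?_
    · intro α ψ hψ g hg γ hγ hne
      have hv := (mem_tPiece hI).1 hψ g _ γ hne
      have hs : ∑ i, α.1 i = -1 := by
        by_contra hs
        rw [tPiece_mPow_eq_zero hs hψ, app, LinearMap.zero_apply, map_zero] at hne
        exact hne rfl
      have hv' : ∀ i, (γ i : ℤ) = g i + α.1 i := congrFun hv
      have hd : (γ.degree : ℤ) = r + ∑ i, α.1 i := by
        rw [← hg, Finsupp.degree_eq_sum, Finsupp.degree_eq_sum, Nat.cast_sum, Nat.cast_sum, ← Finset.sum_add_distrib]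
        exact Finset.sum_congr rfl fun i _ => hv' i
      exact ⟨by omega, by rw [hv]; simpa using α.2⟩
    · intro g hg γ _ hne
      rw [app, LinearMap.zero_apply, map_zero] at hne
      exact absurd rfl hne
    · intro a b ha hb g hg γ hγ hne
      rw [app, LinearMap.add_apply, map_add] at hne
      by_cases h : coef hI γ (app a (mem_exps_mPow.2 hg.ge)) = 0
      · exact hb g hg γ hγ (fun h' => hne (by rw [show coef hI γ (a ⟨monomial g 1, _⟩) = 0 from h, show coef hI γ (b ⟨monomial g 1, _⟩) = 0 from h', add_zero]))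
      · exact ha g hg γ hγ h
  have inj : Function.Injective Θ := by
    intro φ ψ h
    refine Subtype.ext (mPow_ext fun g hg => eq_of_coef hI fun γ hγ => ?_)
    by_cases hp : γ.degree + 1 = r ∧ P (vec γ - vec g)
    · exact congrFun h ⟨⟨(g, γ), hg, hp.1⟩, hp.2⟩
    · rw [show coef hI γ (app φ.1 (mem_exps_mPow.2 hg.ge)) = 0 from by_contra fun hne => hp (supp φ.1 φ.2 g hg γ hγ hne),
        show coef hI γ (app ψ.1 (mem_exps_mPow.2 hg.ge)) = 0 from by_contra fun hne => hp (supp ψ.1 ψ.2 g hg γ hγ hne)]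
  have surj : Function.Surjective Θ := by
    intro c
    have hmem : ∀ p : {p : Pairs σ r // P (dif p)},
        socleMap hI p.1.1.1 p.1.1.2 (minimal_deg p.1.2.1) (socle_deg p.1.2.2) ∈ W := fun p =>
      le_iSup (fun α : {α : σ → ℤ // P α} => tPiece (mPow σ k r) α.1) ⟨dif p.1, p.2⟩
        (socleMap_mem_tPiece hI _ _ _ _ _ (by simp only [dif]; abel))
    refine ⟨⟨∑ p, c p • socleMap hI p.1.1.1 p.1.1.2 (minimal_deg p.1.2.1) (socle_deg p.1.2.2),
      Submodule.sum_mem _ fun p _ => Submodule.smul_mem _ _ (hmem p)⟩, funext fun q => ?_⟩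
    show coef hI q.1.1.2 (app (∑ p, c p • _) _) = c q
    rw [app, LinearMap.sum_apply, map_sum, Finset.sum_eq_single q]
    · rw [LinearMap.smul_apply, map_smul]
      show c q • coef hI _ (app (socleMap hI _ _ _ _) _) = _
      have hq : q.1.1.2 ∉ exps (mPow σ k r) := by rw [mem_exps_mPow]; have := q.1.2.2; omega
      rw [socleMap, app_mkTgt, if_pos rfl, coef_mono, if_pos ⟨rfl, hq⟩, smul_eq_mul, mul_one]
    · intro p _ hp
      rw [LinearMap.smul_apply, map_smul]
      show c p • coef hI _ (app (socleMap hI _ _ _ _) _) = _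
      rw [socleMap, app_mkTgt]
      by_cases hg : q.1.1.1 = p.1.1.1
      · rw [if_pos hg, coef_mono, if_neg, smul_zero]
        exact fun h => hp (Subtype.ext (Subtype.ext (Prod.ext hg.symm h.1)))
      · rw [if_neg hg, map_zero, smul_zero]
    · intro h; exact absurd (Finset.mem_univ q) h
  rw [(LinearEquiv.ofBijective Θ ⟨inj, surj⟩).finrank_eq, Module.finrank_fintype_fun_eq_card, Nat.card_eq_fintype_card]

/-- Exponent vectors of given degree on `n + 1` variables. -/
theorem natCard_degree_eq {τ : Type} [Fintype τ] (N n : ℕ) (hτ : Fintype.card τ = N + 1) :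
    Nat.card {P : τ → ℕ // ∑ i, P i = n} = Nat.choose (n + N) N := by
  classical
  rw [← Nat.card_congr (Sym.equivNatSumOfFintype τ n), Nat.card_eq_fintype_card, Sym.card_sym_eq_choose, hτ,
    show N + 1 + n - 1 = n + N by omega, Nat.choose_symm_add]

end Groth.Agent.W4Hilb
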