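import Mathlib
import Groth.Agent.W4Hilb.Basic

/-! Moving maps out of monomial ideals and a criterion for the dimension of the degree-zero part. -/

set_option autoImplicit false
set_option backward.isDefEq.respectTransparency false

namespace Groth.Agent.W4Hilb

open MvPolynomial W4c1hilbpn

universe u
variable {k : Type u} [Field k] {n : ℕ}

/-- The degree-zero part. -/
noncomputable def degZero (I : Ideal (MvPolynomial (Fin (n + 1)) k)) : Submodule k (Tgt I) :=
  ⨆ α : {α : Fin (n + 1) → ℤ // ∑ i, α i = 0}, tPiece I α.1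

variable {I : Ideal (MvPolynomial (Fin (n + 1)) k)} (hI : IsMonomial I)

/-- The condition making `moveHom` linear. -/
def MoveOK (I : Ideal (MvPolynomial (Fin (n + 1)) k)) (g τ : Fin (n + 1) →₀ ℕ)
    (cond : (Fin (n + 1) →₀ ℕ) → Prop) : Prop :=
  ∀ β δ, β ∈ exps I →
    ((g ≤ β ∧ cond β) → (g ≤ β + δ ∧ cond (β + δ)) ∨ τ + (β + δ - g) ∈ exps I) ∧
    ((g ≤ β + δ ∧ cond (β + δ)) → (g ≤ β ∧ cond β) ∨ τ + (β + δ - g) ∈ exps I)

open Classical in
/-- Multiplication by `x^(τ - g)` on the monomials satisfying `cond`. -/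
noncomputable def moveHom (g τ : Fin (n + 1) →₀ ℕ) (cond : (Fin (n + 1) →₀ ℕ) → Prop)
    (h : MoveOK I g τ cond) : Tgt I :=
  mkTgt hI (fun β => if g ≤ β ∧ cond β then Ideal.Quotient.mk I (monomial (τ + (β - g)) (1 : k)) else 0)
    (fun β δ hβ => by
      have hmk : (monomial δ (1 : k) : MvPolynomial (Fin (n + 1)) k) •
          Ideal.Quotient.mk I (monomial (τ + (β - g)) (1 : k)) =
          Ideal.Quotient.mk I (monomial (τ + (β - g) + δ) (1 : k)) := by
        show Ideal.Quotient.mk I (monomial δ 1 * monomial _ 1) = _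
        rw [monomial_mul, one_mul, add_comm δ]
      by_cases h1 : g ≤ β ∧ cond β
      · have e : τ + (β + δ - g) = τ + (β - g) + δ := by rw [← tsub_add_eq_add_tsub h1.1, add_assoc]
        rw [if_pos h1, hmk]
        by_cases h2 : g ≤ β + δ ∧ cond (β + δ)
        · rw [if_pos h2, e]
        · rw [if_neg h2, eq_comm, Ideal.Quotient.eq_zero_iff_mem, ← e]
          exact ((h β δ hβ).1 h1).resolve_left h2
      · rw [if_neg h1, smul_zero]
        by_cases h2 : g ≤ β + δ ∧ cond (β + δ)
        · rw [if_pos h2, Ideal.Quotient.eq_zero_iff_mem]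
          exact ((h β δ hβ).2 h2).resolve_left h1
        · rw [if_neg h2])

open Classical in
theorem coef_moveHom (g τ : Fin (n + 1) →₀ ℕ) (cond : (Fin (n + 1) →₀ ℕ) → Prop) (h : MoveOK I g τ cond)
    {β : Fin (n + 1) →₀ ℕ} (hβ : β ∈ exps I) (γ : Fin (n + 1) →₀ ℕ) :
    coef hI γ (app (moveHom hI g τ cond h) hβ) =
      if (g ≤ β ∧ cond β) ∧ τ + (β - g) = γ ∧ γ ∉ exps I then 1 else 0 := by
  rw [moveHom, app_mkTgt]
  by_cases h1 : g ≤ β ∧ cond β
  · rw [if_pos h1, coef_mono]
    by_cases h2 : τ + (β - g) = γ ∧ γ ∉ exps I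
    · rw [if_pos h2, if_pos ⟨h1, h2⟩]
    · rw [if_neg h2, if_neg fun h3 => h2 h3.2]
  · rw [if_neg h1, map_zero, if_neg fun h3 => h1 h3.1]

theorem moveHom_mem (g τ : Fin (n + 1) →₀ ℕ) (cond : (Fin (n + 1) →₀ ℕ) → Prop) (h : MoveOK I g τ cond)
    (hdeg : τ.degree = g.degree) : moveHom hI g τ cond h ∈ degZero I := by
  classical
  refine le_iSup (fun α : {α : Fin (n + 1) → ℤ // ∑ i, α i = 0} => tPiece I α.1)
    ⟨vec τ - vec g, ?_⟩ ((mem_tPiece hI).2 fun β hβ γ hne => ?_)
  · simp only [Pi.sub_apply, vec, Finset.sum_sub_distrib, ← Nat.cast_sum, ← Finsupp.degree_eq_sum, hdeg, sub_self]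
  · rw [coef_moveHom] at hne
    split_ifs at hne with hc
    · obtain ⟨⟨hg, -⟩, rfl, -⟩ := hc
      obtain ⟨η, rfl⟩ := exists_add_of_le hg
      rw [add_tsub_cancel_left]
      funext i
      simp [vec]
      ring
    · exact absurd rfl hne

include hI in
theorem degree_of_coef_ne_zero {φ : Tgt I} (hφ : φ ∈ degZero I) {β : Fin (n + 1) →₀ ℕ} (hβ : β ∈ exps I)
    {γ : Fin (n + 1) →₀ ℕ} (hne : coef hI γ (app φ hβ) ≠ 0) : γ.degree = β.degree := by
  revert β γ
  refine Submodule.iSup_induction _ (motive := fun φ => ∀ {β : Fin (n + 1) →₀ ℕ} (hβ : β ∈ exps I)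
    {γ : Fin (n + 1) →₀ ℕ}, coef hI γ (app φ hβ) ≠ 0 → γ.degree = β.degree) hφ ?_ ?_ ?_
  · intro α ψ hψ β hβ γ hne
    have hv' : ∀ i, (γ i : ℤ) = β i + α.1 i := congrFun ((mem_tPiece hI).1 hψ β hβ γ hne)
    have hd : (γ.degree : ℤ) = β.degree + ∑ i, α.1 i := by
      rw [Finsupp.degree_eq_sum, Finsupp.degree_eq_sum, Nat.cast_sum, Nat.cast_sum, ← Finset.sum_add_distrib]
      exact Finset.sum_congr rfl fun i _ => hv' i
    rw [α.2] at hd; omega
  · intro β hβ γ hne
    rw [app, LinearMap.zero_apply, map_zero] at hne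
    exact absurd rfl hne
  · intro x y hx hy β hβ γ hne
    rw [app, LinearMap.add_apply, map_add] at hne
    by_cases h : coef hI γ (x ⟨monomial β 1, hβ⟩) = 0
    · exact hy hβ (fun h' => hne (by rw [h, show coef hI γ (y ⟨monomial β 1, hβ⟩) = 0 from h', add_zero]))
    · exact hx hβ h

/-- Moving a coefficient along a relation between two generators. -/
theorem coef_rel (φ : Tgt I) {β β' δ δ' γ : Fin (n + 1) →₀ ℕ} (hβ : β ∈ exps I) (hβ' : β' ∈ exps I)
    (he : β + δ' = β' + δ) (hγ : γ + δ' ∉ exps I)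
    (h0 : δ ≤ γ + δ' → coef hI (γ + δ' - δ) (app φ hβ') = 0) : coef hI γ (app φ hβ) = 0 := by
  classical
  rw [← coef_smul_shift hI δ' γ _ hγ, ← app_add φ hβ, app_congr φ he (exps_add hβ _), app_add φ hβ',
    coef_monomial_smul hI _ _ _ hγ]
  split_ifs with h
  · exact h0 h
  · rfl

/-- The dimension of the degree-zero part from a triangular system of coordinates. -/
theorem finrank_degZero {P : Type} [Fintype P] [DecidableEq P] (pos : P → Fin (n + 1) →₀ ℕ) (hpos : ∀ p, pos p ∈ exps I)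
    (tgt : P → Fin (n + 1) →₀ ℕ) (rk : P → ℕ) (D : P → Tgt I) (hD : ∀ p, D p ∈ degZero I)
    (hdiag : ∀ p q, rk p ≤ rk q → coef hI (tgt q) (app (D p) (hpos q)) = if p = q then 1 else 0)
    (hinj : ∀ φ ∈ degZero I, (∀ q, coef hI (tgt q) (app φ (hpos q)) = 0) → φ = 0) :
    Module.finrank k ↥(degZero I) = Fintype.card P := by
  let Θ : ↥(degZero I) →ₗ[k] (P → k) :=
    { toFun := fun φ q => coef hI (tgt q) (app φ.1 (hpos q))
      map_add' := fun φ ψ => funext fun q => by
        show coef hI _ (app (φ.1 + ψ.1) _) = coef hI _ (app φ.1 _) + coef hI _ (app ψ.1 _)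
        rw [app, LinearMap.add_apply, map_add]
      map_smul' := fun s φ => funext fun q => by
        show coef hI _ (app (s • φ.1) _) = s • coef hI _ (app φ.1 _)
        rw [app, LinearMap.smul_apply, map_smul] }
  have hΘ : Function.Injective Θ := by
    intro φ ψ h
    apply Subtype.ext
    refine sub_eq_zero.1 (hinj _ (Submodule.sub_mem _ φ.2 ψ.2) fun q => ?_)
    rw [app, LinearMap.sub_apply, map_sub, sub_eq_zero]
    exact congrFun h q
  have hli : LinearIndependent k fun p => Θ ⟨D p, hD p⟩ := by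
    rw [Fintype.linearIndependent_iff]
    intro c hc
    suffices H : ∀ N q, N ≤ rk q + 1 → (∀ p, rk q < rk p → c p = 0) → c q = 0 by
      have main : ∀ d q, Finset.univ.sup rk - rk q = d → c q = 0 := by
        intro d
        induction d using Nat.strong_induction_on with
        | _ d ih =>
          intro q hq
          refine H 0 q (Nat.zero_le _) fun p hp => ih _ ?_ p rfl
          have := Finset.le_sup (f := rk) (Finset.mem_univ p)
          omega
      exact fun q => main _ q rfl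
    intro _ q _ hbig
    have := congrFun hc q
    rw [Finset.sum_apply, Pi.zero_apply, Finset.sum_eq_single q] at this
    · simp only [Pi.smul_apply, smul_eq_mul] at this
      rw [show Θ ⟨D q, hD q⟩ q = 1 from (hdiag q q le_rfl).trans (if_pos rfl), mul_one] at this
      exact this
    · intro p _ hpq
      simp only [Pi.smul_apply, smul_eq_mul]
      by_cases hle : rk p ≤ rk q
      · rw [show Θ ⟨D p, hD p⟩ q = 0 from (hdiag p q hle).trans (if_neg hpq), mul_zero]
      · rw [hbig p (by omega), zero_mul]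
    · exact fun h => absurd (Finset.mem_univ _) h
  haveI : Module.Finite k ↥(degZero I) := Module.Finite.of_injective Θ hΘ
  refine le_antisymm ?_ ?_
  · simpa using LinearMap.finrank_le_finrank_of_injective hΘ
  · exact (LinearIndependent.of_comp Θ hli).fintype_card_le_finrank

/-- The ideal spanned by monomials. -/
noncomputable def spanMon (k : Type u) [Field k] (G : Set (Fin (n + 1) →₀ ℕ)) :
    Ideal (MvPolynomial (Fin (n + 1)) k) :=
  Ideal.span ((fun β => monomial β (1 : k)) '' G)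

theorem mem_exps_spanMon {G : Set (Fin (n + 1) →₀ ℕ)} {β : Fin (n + 1) →₀ ℕ} :
    β ∈ exps (spanMon k G) ↔ ∃ g ∈ G, g ≤ β := by
  classical
  show monomial β (1 : k) ∈ spanMon k G ↔ _
  rw [spanMon, mem_ideal_span_monomial_image]
  simp [support_monomial]

theorem spanMon_isMonomial (G : Set (Fin (n + 1) →₀ ℕ)) : IsMonomial (spanMon k G) := by
  classical
  intro p hp β hβ
  exact mem_exps_spanMon.2 (mem_ideal_span_monomial_image.1 hp β hβ)

theorem tgt_eq_zero_of_gens {G : Set (Fin (n + 1) →₀ ℕ)} {φ : Tgt (spanMon k G)}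
    (h : ∀ g ∈ G, ∀ hg : g ∈ exps (spanMon k G), ∀ γ, γ ∉ exps (spanMon k G) →
      coef (spanMon_isMonomial G) γ (app φ hg) = 0) : φ = 0 := by
  refine tgt_ext (spanMon_isMonomial G) fun β hβ => ?_
  obtain ⟨g, hg, hle⟩ := mem_exps_spanMon.1 hβ
  obtain ⟨δ, rfl⟩ := exists_add_of_le hle
  have hg' : g ∈ exps (spanMon k G) := mem_exps_spanMon.2 ⟨g, hg, le_rfl⟩
  rw [app_add φ hg' δ, eq_zero_of_coef (spanMon_isMonomial G) (h g hg hg'), smul_zero]
  rfl

end Groth.Agent.W4Hilb
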