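import Mathlib
import Groth.Agent.W4Hilb.Move

/-! The degree-zero tangent space at `x₀·(x₀,…,x_{n-1}) + x₁^q·(x₁,…,x_m)`. -/

set_option autoImplicit false
set_option backward.isDefEq.respectTransparency false
set_option linter.unusedSimpArgs false

namespace Groth.Agent.W4Hilb

open MvPolynomial W4c1hilbpn
open Finsupp (single)

universe u

namespace TwoBlock

variable {k : Type u} [Field k] {n q m : ℕ}

/-- Standing hypotheses. -/
structure Hyp (n q m : ℕ) : Prop where
  two_le : 2 ≤ m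
  lt : m + 1 ≤ n
  q_pos : 1 ≤ q
  case : m + 3 ≤ n ∨ (m + 2 = n ∧ q ≠ 2) ∨ (m + 1 = n ∧ q = 1)

theorem val_one (h : Hyp n q m) : ((1 : Fin (n + 1)) : ℕ) = 1 := by
  have := h.two_le; have := h.lt
  rw [Fin.val_one', Nat.mod_eq_of_lt (by omega)]

/-- Generators of the first block. -/
noncomputable def gA (i : Fin (n + 1)) : Fin (n + 1) →₀ ℕ := single 0 1 + single i 1

/-- Generators of the second block. -/
noncomputable def gB (q : ℕ) (j : Fin (n + 1)) : Fin (n + 1) →₀ ℕ := single 1 q + single j 1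

/-- All generators. -/
def gens (n q m : ℕ) : Set (Fin (n + 1) →₀ ℕ) :=
  {β | ∃ i : Fin (n + 1), i.val < n ∧ β = gA i} ∪ {β | ∃ j : Fin (n + 1), 1 ≤ j.val ∧ j.val ≤ m ∧ β = gB q j}

theorem sget (a x : Fin (n + 1)) (b : ℕ) : (single a b) x = if a.val = x.val then b else 0 := by
  rw [Finsupp.single_apply]
  exact if_congr Fin.ext_iff rfl rfl

theorem le_pair_iff {a b : Fin (n + 1)} {p r : ℕ} {β : Fin (n + 1) →₀ ℕ} :
    single a p + single b r ≤ β ↔ (a = b ∧ p + r ≤ β a) ∨ (a ≠ b ∧ p ≤ β a ∧ r ≤ β b) := by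
  rcases eq_or_ne a b with rfl | hab
  · rw [← Finsupp.single_add, Finsupp.single_le_iff]; simp
  · simp only [hab, false_and, ne_eq, not_false_iff, true_and, false_or]
    refine ⟨fun h => ⟨?_, ?_⟩, fun h x => ?_⟩
    · have := h a; simpa [hab] using this
    · have := h b; simpa [hab.symm] using this
    · rcases eq_or_ne x a with rfl | hxa
      · simpa [hab] using h.1
      · rcases eq_or_ne x b with rfl | hxb
        · simpa [hab.symm] using h.2
        · simp [hxa, hxb]

/-- Membership in the first block. -/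
def InA (β : Fin (n + 1) →₀ ℕ) : Prop :=
  2 ≤ β 0 ∨ (1 ≤ β 0 ∧ ∃ i : Fin (n + 1), 1 ≤ i.val ∧ i.val < n ∧ 1 ≤ β i)

/-- Membership in the second block. -/
def InB (q m : ℕ) (β : Fin (n + 1) →₀ ℕ) : Prop :=
  q + 1 ≤ β 1 ∨ (q ≤ β 1 ∧ ∃ j : Fin (n + 1), 2 ≤ j.val ∧ j.val ≤ m ∧ 1 ≤ β j)

/-- The ideal. -/
noncomputable abbrev ideal (k : Type u) [Field k] (n q m : ℕ) : Ideal (MvPolynomial (Fin (n + 1)) k) :=
  spanMon k (gens n q m)

theorem mem_exps (h : Hyp n q m) {β : Fin (n + 1) →₀ ℕ} :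
    β ∈ exps (ideal k n q m) ↔ InA β ∨ InB q m β := by
  have h1 := val_one h
  have := h.two_le; have := h.lt
  rw [mem_exps_spanMon]
  constructor
  · rintro ⟨g, (⟨i, hi, rfl⟩ | ⟨j, hj1, hj, rfl⟩), hle⟩ <;> simp only [gA, gB, le_pair_iff] at hle
    · rcases hle with ⟨-, hh⟩ | ⟨hne, h0, hi'⟩
      · exact Or.inl (Or.inl (by omega))
      · exact Or.inl (Or.inr ⟨h0, i, Nat.one_le_iff_ne_zero.2 fun e => hne (Fin.ext (by simp [e])), hi, hi'⟩)
    · rcases hle with ⟨-, hh⟩ | ⟨hne, h0, hi'⟩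
      · exact Or.inr (Or.inl hh)
      · refine Or.inr (Or.inr ⟨h0, j, ?_, hj, hi'⟩)
        have : j.val ≠ 1 := fun e => hne (Fin.ext (by omega))
        omega
  · rintro ((h0 | ⟨h0, i, hi1, hi, hb⟩) | (h0 | ⟨h0, j, hj2, hj, hb⟩))
    · exact ⟨_, Or.inl ⟨0, by simp; omega, rfl⟩, le_pair_iff.2 (Or.inl ⟨rfl, h0⟩)⟩
    · exact ⟨_, Or.inl ⟨i, hi, rfl⟩, le_pair_iff.2 (Or.inr ⟨fun e => by subst e; simp at hi1, h0, hb⟩)⟩
    · exact ⟨_, Or.inr ⟨1, by omega, by omega, rfl⟩, le_pair_iff.2 (Or.inl ⟨rfl, h0⟩)⟩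
    · exact ⟨_, Or.inr ⟨j, by omega, hj, rfl⟩,
        le_pair_iff.2 (Or.inr ⟨fun e => by subst e; omega, h0, hb⟩)⟩

theorem gA_mem (h : Hyp n q m) {i : Fin (n + 1)} (hi : i.val < n) : gA i ∈ exps (ideal k n q m) :=
  mem_exps_spanMon.2 ⟨_, Or.inl ⟨i, hi, rfl⟩, le_rfl⟩

theorem gB_mem (h : Hyp n q m) {j : Fin (n + 1)} (h1 : 1 ≤ j.val) (hj : j.val ≤ m) :
    gB q j ∈ exps (ideal k n q m) :=
  mem_exps_spanMon.2 ⟨_, Or.inr ⟨j, h1, hj, rfl⟩, le_rfl⟩

theorem coef_moveHom_eq {I : Ideal (MvPolynomial (Fin (n + 1)) k)} (hI : IsMonomial I)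
    (g τ : Fin (n + 1) →₀ ℕ) (cond : (Fin (n + 1) →₀ ℕ) → Prop) (h : MoveOK I g τ cond)
    {β : Fin (n + 1) →₀ ℕ} (hβ : β ∈ exps I) (γ : Fin (n + 1) →₀ ℕ) (P : Prop) [Decidable P]
    (hiff : (g ≤ β ∧ cond β) ∧ τ + (β - g) = γ ∧ γ ∉ exps I ↔ P) :
    coef hI γ (app (moveHom hI g τ cond h) hβ) = if P then 1 else 0 := by
  classical
  rw [coef_moveHom]
  exact if_congr hiff rfl rfl

theorem pointOK (g τ : Fin (n + 1) →₀ ℕ) (F : Fin (n + 1) → Prop) {I : Ideal (MvPolynomial (Fin (n + 1)) k)}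
    (ha : ∀ x, F x → τ + single x 1 ∈ exps I)
    (hb : ∀ β, β ∈ exps I → (∀ x, F x → β x ≤ g x) → g ≤ β) :
    MoveOK I g τ fun β => ∀ x, F x → β x = g x := by
  intro β δ hβ
  constructor
  · rintro ⟨hg, hc⟩
    by_cases hd : ∀ x, F x → δ x = 0
    · exact Or.inl ⟨hg.trans le_self_add, fun x hx => by rw [Finsupp.add_apply, hd x hx, add_zero, hc x hx]⟩
    · push Not at hd
      obtain ⟨x, hx, hx0⟩ := hd
      refine Or.inr (exps_of_le (ha x hx) (add_le_add le_rfl ?_))
      rw [Finsupp.single_le_iff, Finsupp.tsub_apply, Finsupp.add_apply, hc x hx]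
      omega
  · rintro ⟨hg, hc⟩
    have hle : ∀ x, F x → β x ≤ g x := fun x hx => by rw [← hc x hx, Finsupp.add_apply]; omega
    have := hb β hβ hle
    exact Or.inl ⟨this, fun x hx => le_antisymm (hle x hx) (this x)⟩

theorem le_of_gA (h : Hyp n q m) {i : Fin (n + 1)} (hi : i.val < n) (F : Fin (n + 1) → Prop)
    (hF : ∀ x : Fin (n + 1), x.val ≤ m → F x) (hF' : ∀ x : Fin (n + 1), x.val < n → ¬ F x → x = i)
    (β : Fin (n + 1) →₀ ℕ) (hβ : β ∈ exps (ideal k n q m)) (hle : ∀ x, F x → β x ≤ gA i x) : gA i ≤ β := by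
  have h1 := val_one h
  have := h.two_le; have := h.lt; have := h.q_pos
  have hc0 := hle 0 (hF 0 (by simp))
  have hc1 := hle 1 (hF 1 (by omega))
  simp only [gA, Finsupp.add_apply, Finsupp.single_apply] at hc0 hc1
  have h01 : (0 : Fin (n + 1)) ≠ 1 := fun e => by have := congrArg Fin.val e; rw [h1] at this; simp at this
  simp only [if_true, if_pos rfl, h01, if_false, zero_add] at hc0 hc1
  rw [gA, le_pair_iff]
  rcases (mem_exps h).1 hβ with (h0 | ⟨h0, i', hi1, hi', hb⟩) | (h0 | ⟨h0, j, hj2, hj, hb⟩)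
  · by_cases e : i = 0
    · exact Or.inl ⟨e.symm, by omega⟩
    · rw [if_neg e] at hc0; omega
  · have : i' = i := by
      by_cases hf : F i'
      · by_contra hne
        have := hle i' hf
        have e0 : i' ≠ 0 := fun e => by subst e; simp at hi1
        simp [gA, Finsupp.single_eq_of_ne e0, Finsupp.single_eq_of_ne hne] at this
        omega
      · exact hF' i' hi' hf
    subst this
    exact Or.inr ⟨fun e => by subst e; simp at hi1, h0, hb⟩
  · split_ifs at hc1 <;> omega
  · have e : i = 1 := by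
      by_contra e
      rw [if_neg e] at hc1
      omega
    have := hle j (hF j hj)
    subst e
    simp [gA, Finsupp.single_apply] at this
    have e0 : (0 : Fin (n + 1)) ≠ j := fun e => by subst e; simp at hj2
    have e1 : (1 : Fin (n + 1)) ≠ j := fun e => by subst e; omega
    simp [e0, e1] at this
    omega

theorem le_of_gB (h : Hyp n q m) {j : Fin (n + 1)} (h1j : 1 ≤ j.val) (hj : j.val ≤ m) (F : Fin (n + 1) → Prop)
    (hF : ∀ x : Fin (n + 1), x.val ≤ m → F x)
    (β : Fin (n + 1) →₀ ℕ) (hβ : β ∈ exps (ideal k n q m)) (hle : ∀ x, F x → β x ≤ gB q j x) : gB q j ≤ β := by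
  have h1 := val_one h
  have := h.two_le; have := h.lt; have := h.q_pos
  have e0 : j ≠ 0 := fun e => by subst e; simp at h1j
  have h01 : (1 : Fin (n + 1)) ≠ 0 := fun e => by have := congrArg Fin.val e; rw [h1] at this; simp at this
  have hc0 := hle 0 (hF 0 (by simp))
  simp [gB, Finsupp.single_eq_of_ne e0.symm, Finsupp.single_eq_of_ne h01.symm] at hc0
  rw [gB, le_pair_iff]
  rcases (mem_exps h).1 hβ with (h0 | ⟨h0, -⟩) | (h0 | ⟨h0, j', hj2, hj', hb⟩)
  · omega
  · omega
  · have hc1 := hle 1 (hF 1 (by omega))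
    by_cases e : (1 : Fin (n + 1)) = j
    · subst e; exact Or.inl ⟨rfl, h0⟩
    · simp [gB, Finsupp.single_eq_of_ne e] at hc1; omega
  · have : j' = j := by
      by_contra hne
      have := hle j' (hF j' hj')
      have e1 : j' ≠ 1 := fun e => by subst e; omega
      simp [gB, Finsupp.single_eq_of_ne e1, Finsupp.single_eq_of_ne hne] at this
      omega
    subst this
    exact Or.inr ⟨fun e => by subst e; omega, h0, hb⟩

/-- Indices of the first block. -/
abbrev IA (n : ℕ) : Type := {i : Fin (n + 1) // i.val < n}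
/-- Ratio parameters. -/
abbrev IV (n m : ℕ) : Type := {s : Fin (n + 1) // 1 ≤ s.val ∧ (s.val = 1 → m + 1 ≠ n)}
/-- Extra parameters. -/
abbrev IE (n q m : ℕ) : Type :=
  {i : Fin (n + 1) // i.val < n ∧ q = 1 ∧ (m + 1 = n ∨ (m + 2 = n ∧ i.val + 1 = n))}
/-- Indices of the second block. -/
abbrev IB (n m : ℕ) : Type := {j : Fin (n + 1) // 1 ≤ j.val ∧ j.val ≤ m}
/-- The monomials for the second family of ratio parameters. -/
noncomputable def etaSet (n q : ℕ) : Finset (Fin (n + 1) →₀ ℕ) :=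
  ((Finset.univ.erase (0 : Fin (n + 1))).finsuppAntidiag q).erase (single 1 q)
/-- Parameters from the second layer. -/
abbrev IP (n m : ℕ) : Type := IB n m × {s : Fin (n + 1) // m < s.val}
/-- All parameters. -/
abbrev Par (n q m : ℕ) : Type := (IA n ⊕ IV n m ⊕ IE n q m) ⊕ (IB n m ⊕ ↥(etaSet n q) ⊕ IP n m)

theorem eta_spec (h : Hyp n q m) {τ : Fin (n + 1) →₀ ℕ} (hτ : τ ∈ etaSet n q) :
    τ 0 = 0 ∧ τ.degree = q ∧ τ 1 < q := by
  rw [etaSet, Finset.mem_erase, Finset.mem_finsuppAntidiag] at hτ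
  obtain ⟨hne, hsum, hsupp⟩ := hτ
  have h0 : τ 0 = 0 := Finsupp.notMem_support_iff.1 fun hm => by simpa using hsupp hm
  have hdeg : τ.degree = q := by
    rw [Finsupp.degree_eq_sum, ← Finset.add_sum_erase _ _ (Finset.mem_univ (0 : Fin (n + 1))), h0, zero_add]
    exact hsum
  refine ⟨h0, hdeg, ?_⟩
  have hle := Finsupp.le_degree (1 : Fin (n + 1)) τ
  rcases (hdeg ▸ hle : τ 1 ≤ q).lt_or_eq with hlt | heq
  · exact hlt
  · refine absurd (Finsupp.ext fun x => ?_) hne
    obtain ⟨ρ, hρ⟩ := exists_add_of_le (Finsupp.single_le_iff.2 heq.ge)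
    have h2 : ρ.degree = 0 := by
      have := congrArg Finsupp.degree hρ
      rw [map_add, Finsupp.degree_single] at this
      omega
    rw [hρ, (Finsupp.degree_eq_zero_iff ρ).1 h2, add_zero]

theorem okA (h : Hyp n q m) (i : IA n) :
    MoveOK (ideal k n q m) (gA i.1) (single 0 1 + single (Fin.last n) 1)
      (fun β => ∀ x : Fin (n + 1), x.val < n → β x = gA i.1 x) := by
  have h1 := val_one h
  have := h.two_le; have := h.lt
  refine pointOK _ _ (fun x => x.val < n) (fun x hx => (mem_exps h).2 (Or.inl ?_))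
    (le_of_gA h i.2 (fun x => x.val < n) (fun x hx => by omega) (fun x hx hx' => absurd hx hx'))
  by_cases e : x = 0
  · subst e; exact Or.inl (by simp)
  · exact Or.inr ⟨(by simp only [Finsupp.add_apply, Finsupp.single_eq_same]; omega), x, Nat.one_le_iff_ne_zero.2 fun e' => e (Fin.ext (by simp [e'])), hx, by simp⟩

theorem okV (h : Hyp n q m) (s : Fin (n + 1)) :
    MoveOK (ideal k n q m) (single 0 1) (single s 1) (fun β => β 0 ≤ 1) := by
  have h1 := val_one h
  have := h.two_le; have := h.lt; have := h.q_pos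
  intro β δ hβ
  constructor
  · rintro ⟨hg, hc⟩
    rw [Finsupp.single_le_iff] at hg
    by_cases hd : δ 0 = 0
    · exact Or.inl ⟨Finsupp.single_le_iff.2 (by rw [Finsupp.add_apply]; omega), by simp only [Finsupp.add_apply] at hc ⊢; omega⟩
    · refine Or.inr ((mem_exps h).2 (Or.inl (Or.inr ⟨by simp; omega, ?_⟩)))
      rcases (mem_exps h).1 hβ with (h0 | ⟨h0, i, hi1, hi, hb⟩) | (h0 | ⟨h0, -⟩)
      · omega
      · have e : i ≠ 0 := fun e => by subst e; simp at hi1
        exact ⟨i, hi1, hi, by simp [Finsupp.single_eq_of_ne e]; omega⟩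
      all_goals
        have e : (1 : Fin (n + 1)) ≠ 0 := fun e => by have := congrArg Fin.val e; rw [h1] at this; simp at this
        exact ⟨1, by omega, by omega, by simp [Finsupp.single_eq_of_ne e]; omega⟩
  · rintro ⟨hg, hc⟩
    simp only [Finsupp.add_apply] at hc
    by_cases hb : 1 ≤ β 0
    · exact Or.inl ⟨Finsupp.single_le_iff.2 hb, by omega⟩
    · refine Or.inr (exps_of_le hβ fun x => ?_)
      by_cases e : x = 0
      · subst e; simp only [not_le, Nat.lt_one_iff] at hb; rw [hb]; exact Nat.zero_le _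
      · simp [Finsupp.single_eq_of_ne e]; omega

theorem okE (h : Hyp n q m) (i : IE n q m) :
    MoveOK (ideal k n q m) (gA i.1) (single 1 1 + single (Fin.last n) 1)
      (fun β => ∀ x : Fin (n + 1), x.val ≤ m → β x = gA i.1 x) := by
  have h1 := val_one h
  have := h.two_le; have := h.lt
  refine pointOK _ _ (fun x => x.val ≤ m) (fun x hx => (mem_exps h).2 ?_)
    (le_of_gA h i.2.1 (fun x => x.val ≤ m) (fun x hx => hx) (fun x hx hx' => ?_))
  · by_cases e : x = 0
    · subst e; exact Or.inl (Or.inr ⟨(by simp only [Finsupp.add_apply, Finsupp.single_eq_same]; omega), 1, by omega, by omega, (by simp only [Finsupp.add_apply, Finsupp.single_eq_same]; omega)⟩)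
    · by_cases e1 : x = 1
      · subst e1; exact Or.inr (Or.inl (by simp only [Finsupp.add_apply, Finsupp.single_eq_same]; have := i.2.2.1; omega))
      · refine Or.inr (Or.inr ⟨by simp only [Finsupp.add_apply, Finsupp.single_eq_same]; have := i.2.2.1; omega, x, ?_, hx, by simp⟩)
        have : x.val ≠ 0 := fun e' => e (Fin.ext (by simp [e']))
        have : x.val ≠ 1 := fun e' => e1 (Fin.ext (by omega))
        omega
  · refine Fin.ext ?_
    rcases i.2.2.2 with hh | ⟨hh, hi⟩ <;> omega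

theorem okB (h : Hyp n q m) (j : IB n m) :
    MoveOK (ideal k n q m) (gB q j.1) (single 0 1 + single (Fin.last n) q)
      (fun β => ∀ x : Fin (n + 1), x.val < n → β x = gB q j.1 x) := by
  have h1 := val_one h
  have := h.two_le; have := h.lt
  refine pointOK _ _ (fun x => x.val < n) (fun x hx => (mem_exps h).2 (Or.inl ?_))
    (le_of_gB h j.2.1 j.2.2 (fun x => x.val < n) (fun x hx => by omega))
  by_cases e : x = 0
  · subst e; exact Or.inl (by simp)
  · exact Or.inr ⟨(by simp only [Finsupp.add_apply, Finsupp.single_eq_same]; omega), x, Nat.one_le_iff_ne_zero.2 fun e' => e (Fin.ext (by simp [e'])), hx, by simp⟩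

theorem okP (h : Hyp n q m) (p : IP n m) :
    MoveOK (ideal k n q m) (gB q p.1.1) (single 1 q + single p.2.1 1)
      (fun β => ∀ x : Fin (n + 1), x.val ≤ m → β x = gB q p.1.1 x) := by
  have h1 := val_one h
  have := h.two_le; have := h.lt; have := h.q_pos
  refine pointOK _ _ (fun x => x.val ≤ m) (fun x hx => (mem_exps h).2 ?_)
    (le_of_gB h p.1.2.1 p.1.2.2 (fun x => x.val ≤ m) (fun x hx => hx))
  by_cases e : x = 0
  · subst e; exact Or.inl (Or.inr ⟨(by simp only [Finsupp.add_apply, Finsupp.single_eq_same]; omega), 1, by omega, by omega, (by simp only [Finsupp.add_apply, Finsupp.single_eq_same]; omega)⟩)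
  · by_cases e1 : x = 1
    · subst e1; exact Or.inr (Or.inl (by simp only [Finsupp.add_apply, Finsupp.single_eq_same]; omega))
    · refine Or.inr (Or.inr ⟨(by simp only [Finsupp.add_apply, Finsupp.single_eq_same]; omega), x, ?_, hx, by simp⟩)
      have : x.val ≠ 0 := fun e' => e (Fin.ext (by simp [e']))
      have : x.val ≠ 1 := fun e' => e1 (Fin.ext (by omega))
      omega

theorem okEta (h : Hyp n q m) (τ : Fin (n + 1) →₀ ℕ) :
    MoveOK (ideal k n q m) (single 1 q) τ (fun β => β 0 = 0) := by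
  have h1 := val_one h
  have := h.two_le; have := h.lt; have := h.q_pos
  intro β δ hβ
  constructor
  · rintro ⟨hg, hc⟩
    rw [Finsupp.single_le_iff] at hg
    by_cases hd : δ 0 = 0
    · exact Or.inl ⟨Finsupp.single_le_iff.2 (by rw [Finsupp.add_apply]; omega), by simp only [Finsupp.add_apply] at hc ⊢; omega⟩
    · have e : (1 : Fin (n + 1)) ≠ 0 := fun e => by have := congrArg Fin.val e; rw [h1] at this; simp at this
      refine Or.inr ((mem_exps h).2 (Or.inl (Or.inr ⟨by simp [Finsupp.single_eq_of_ne e.symm]; omega, ?_⟩)))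
      rcases (mem_exps h).1 hβ with (h0 | ⟨h0, -⟩) | (h0 | ⟨h0, j, hj2, hj, hb⟩)
      · omega
      · omega
      · exact ⟨1, by omega, by omega, by simp; omega⟩
      · have e1 : j ≠ 1 := fun e => by subst e; omega
        exact ⟨j, by omega, by omega, by simp [Finsupp.single_eq_of_ne e1]; omega⟩
  · rintro ⟨hg, hc⟩
    simp only [Finsupp.add_apply] at hc
    refine Or.inl ⟨Finsupp.single_le_iff.2 ?_, by omega⟩
    rcases (mem_exps h).1 hβ with (h0 | ⟨h0, -⟩) | (h0 | ⟨h0, -⟩) <;> omega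

/-- The pivot variable. -/
def piv (h : Hyp n q m) : Fin (n + 1) :=
  if m + 1 = n then ⟨2, by have := h.two_le; have := h.lt; omega⟩ else ⟨n - 1, by omega⟩

theorem piv_spec (h : Hyp n q m) :
    2 ≤ (piv h).val ∧ (piv h).val < n ∧ (m + 1 ≠ n → m < (piv h).val ∧ (piv h).val + 1 = n) ∧
      (m + 1 = n → (piv h).val = 2) := by
  have := h.two_le; have := h.lt
  unfold piv
  split_ifs with e <;> simp <;> omega

/-- The second variable. -/
def two (h : Hyp n q m) : Fin (n + 1) := ⟨2, by have := h.two_le; have := h.lt; omega⟩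

/-- Positions. -/
noncomputable def pos (h : Hyp n q m) : Par n q m → Fin (n + 1) →₀ ℕ
  | .inl (.inl i) => gA i.1
  | .inl (.inr (.inl _)) => gA (piv h)
  | .inl (.inr (.inr i)) => gA i.1
  | .inr (.inl j) => gB q j.1
  | .inr (.inr (.inl _)) => gB q (two h)
  | .inr (.inr (.inr p)) => gB q p.1.1

theorem pos_mem (h : Hyp n q m) : ∀ p, pos h p ∈ exps (ideal k n q m)
  | .inl (.inl i) => gA_mem h i.2
  | .inl (.inr (.inl _)) => gA_mem h (piv_spec h).2.1
  | .inl (.inr (.inr i)) => gA_mem h i.2.1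
  | .inr (.inl j) => gB_mem h j.2.1 j.2.2
  | .inr (.inr (.inl _)) => gB_mem h (by simp [two]) (by simpa [two] using h.two_le)
  | .inr (.inr (.inr p)) => gB_mem h p.1.2.1 p.1.2.2

/-- Targets. -/
noncomputable def tgt (h : Hyp n q m) : Par n q m → Fin (n + 1) →₀ ℕ
  | .inl (.inl _) => single 0 1 + single (Fin.last n) 1
  | .inl (.inr (.inl s)) => single s.1 1 + single (piv h) 1
  | .inl (.inr (.inr _)) => single 1 1 + single (Fin.last n) 1
  | .inr (.inl _) => single 0 1 + single (Fin.last n) q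
  | .inr (.inr (.inl τ)) => τ.1 + single (two h) 1
  | .inr (.inr (.inr p)) => single 1 q + single p.2.1 1

/-- Rank. -/
def rk : Par n q m → ℕ
  | .inl (.inr (.inl _)) => 1
  | .inr (.inr (.inl _)) => 1
  | _ => 0

/-- Basic maps. -/
noncomputable def bas (h : Hyp n q m) : Par n q m → Tgt (ideal k n q m)
  | .inl (.inl i) => moveHom (spanMon_isMonomial _) _ _ _ (okA h i)
  | .inl (.inr (.inl s)) => moveHom (spanMon_isMonomial _) _ _ _ (okV h s.1)
  | .inl (.inr (.inr i)) => moveHom (spanMon_isMonomial _) _ _ _ (okE h i)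
  | .inr (.inl j) => moveHom (spanMon_isMonomial _) _ _ _ (okB h j)
  | .inr (.inr (.inl τ)) => moveHom (spanMon_isMonomial _) _ _ _ (okEta h τ.1)
  | .inr (.inr (.inr p)) => moveHom (spanMon_isMonomial _) _ _ _ (okP h p)

theorem bas_mem (h : Hyp n q m) : ∀ p, bas (k := k) h p ∈ degZero (ideal k n q m)
  | .inl (.inl i) => moveHom_mem (spanMon_isMonomial _) _ _ _ (okA h i) (by simp [gA])
  | .inl (.inr (.inl s)) => moveHom_mem (spanMon_isMonomial _) _ _ _ (okV h s.1) (by simp)
  | .inl (.inr (.inr i)) => moveHom_mem (spanMon_isMonomial _) _ _ _ (okE h i) (by simp [gA])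
  | .inr (.inl j) => moveHom_mem (spanMon_isMonomial _) _ _ _ (okB h j) (by simp [gB]; omega)
  | .inr (.inr (.inl τ)) => moveHom_mem (spanMon_isMonomial _) _ _ _ (okEta h τ.1) (by rw [(eta_spec h τ.2).2.1, Finsupp.degree_single])
  | .inr (.inr (.inr p)) => moveHom_mem (spanMon_isMonomial _) _ _ _ (okP h p) (by simp [gB])

theorem tgt_not_mem (h : Hyp n q m) : ∀ p, tgt h p ∉ exps (ideal k n q m) := by
  have h1 := val_one h
  have := h.two_le; have := h.lt; have := h.q_pos
  have hp := piv_spec h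
  rintro ((i | s | i) | (j | τ | p)) hmem <;> rw [mem_exps h] at hmem <;>
    simp only [tgt, InA, InB, Finsupp.add_apply, Finsupp.single_apply, Fin.ext_iff, Fin.val_zero, Fin.val_last,
      h1] at hmem
  · rcases hmem with (h0 | ⟨h0, x, a, b, c⟩) | (h0 | ⟨h0, x, a, b, c⟩) <;> split_ifs at * <;> omega
  · have := s.2
    rcases hmem with (h0 | ⟨h0, x, a, b, c⟩) | (h0 | ⟨h0, x, a, b, c⟩)
    · split_ifs at h0 <;> omega
    · split_ifs at h0 <;> omega
    · rcases h.case with hh | ⟨hh, hq2⟩ | ⟨hh, hq1⟩ <;> split_ifs at h0 <;> omega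
    · rcases h.case with hh | ⟨hh, hq2⟩ | ⟨hh, hq1⟩ <;> split_ifs at h0 c <;> omega
  · have := i.2
    rcases hmem with (h0 | ⟨h0, x, a, b, c⟩) | (h0 | ⟨h0, x, a, b, c⟩) <;> split_ifs at * <;> omega
  · rcases hmem with (h0 | ⟨h0, x, a, b, c⟩) | (h0 | ⟨h0, x, a, b, c⟩) <;> split_ifs at * <;> omega
  · obtain ⟨e0, -, e1⟩ := eta_spec h τ.2
    rcases hmem with (h0 | ⟨h0, x, a, b, c⟩) | (h0 | ⟨h0, x, a, b, c⟩)
    · rw [e0] at h0; simp [two] at h0
    · rw [e0] at h0; simp [two] at h0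
    · simp [two] at h0; omega
    · simp [two] at h0; omega
  · have := p.2.2
    rcases hmem with (h0 | ⟨h0, x, a, b, c⟩) | (h0 | ⟨h0, x, a, b, c⟩) <;> split_ifs at * <;> omega

theorem gA_inj {i i' : Fin (n + 1)} (h : (gA i : Fin (n + 1) →₀ ℕ) = gA i') : i = i' :=
  Finsupp.single_left_injective one_ne_zero (add_left_cancel h)

theorem gB_inj {i i' : Fin (n + 1)} (h : gB q i = gB q i') : i = i' :=
  Finsupp.single_left_injective one_ne_zero (add_left_cancel h)

theorem gA_ne_gB (h : Hyp n q m) {i j : Fin (n + 1)} (hj : 1 ≤ j.val) : gA i ≠ gB q j := fun e => by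
  have h1 := val_one h
  have := congrArg (fun f : Fin (n + 1) →₀ ℕ => f 0) e
  have e0 : (0 : Fin (n + 1)) ≠ j := fun e => by subst e; simp at hj
  have e1 : (0 : Fin (n + 1)) ≠ 1 := fun e => by have := congrArg Fin.val e; rw [h1] at this; simp at this
  simp [gA, gB, Finsupp.single_eq_of_ne e0, Finsupp.single_eq_of_ne e1] at this

theorem gen_eq_of_le {g β : Fin (n + 1) →₀ ℕ} (hle : g ≤ β) (hd : β.degree ≤ g.degree) : β = g := by
  obtain ⟨η, rfl⟩ := exists_add_of_le hle
  rw [map_add] at hd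
  rw [(Finsupp.degree_eq_zero_iff η).1 (by omega), add_zero]

theorem pos_shape (h : Hyp n q m) (p : Par n q m) :
    (∃ i : Fin (n + 1), i.val < n ∧ pos h p = gA i) ∨ (∃ j : Fin (n + 1), 1 ≤ j.val ∧ j.val ≤ m ∧ pos h p = gB q j) :=
  mem_shape (mem_gens h p)
where
  mem_gens (h : Hyp n q m) : ∀ p : Par n q m, pos h p ∈ gens n q m
    | .inl (.inl i) => Or.inl ⟨_, i.2, rfl⟩
    | .inl (.inr (.inl _)) => Or.inl ⟨_, (piv_spec h).2.1, rfl⟩
    | .inl (.inr (.inr i)) => Or.inl ⟨_, i.2.1, rfl⟩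
    | .inr (.inl j) => Or.inr ⟨_, j.2.1, j.2.2, rfl⟩
    | .inr (.inr (.inl _)) => Or.inr ⟨_, by simp [two], by simpa [two] using h.two_le, rfl⟩
    | .inr (.inr (.inr p)) => Or.inr ⟨_, p.1.2.1, p.1.2.2, rfl⟩
  mem_shape {β : Fin (n + 1) →₀ ℕ} (hb : β ∈ gens n q m) :
    (∃ i : Fin (n + 1), i.val < n ∧ β = gA i) ∨ (∃ j : Fin (n + 1), 1 ≤ j.val ∧ j.val ≤ m ∧ β = gB q j) := hb

theorem pos_eq_gB_of_le (h : Hyp n q m) (p : Par n q m) {j : Fin (n + 1)} (hj : 1 ≤ j.val) (hle : gB q j ≤ pos h p) :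
    pos h p = gB q j := by
  have := h.q_pos
  rcases pos_shape h p with ⟨i, -, e⟩ | ⟨j', -, -, e⟩
  · refine gen_eq_of_le hle ?_
    rw [e]; simp [gA, gB]; omega
  · exact gen_eq_of_le hle (by rw [e]; simp [gB])

theorem pos_eq_gA_of_le (h : Hyp n q m) (p : Par n q m) {i : Fin (n + 1)} (hle : gA i ≤ pos h p) :
    pos h p = gA i := by
  rcases pos_shape h p with ⟨i', -, e⟩ | ⟨j, hj1, -, e⟩
  · exact gen_eq_of_le hle (by rw [e]; simp [gA])
  · exfalso
    have := hle 0
    have h1 := val_one h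
    have e0 : (0 : Fin (n + 1)) ≠ j := fun e => by subst e; simp at hj1
    have e1 : (0 : Fin (n + 1)) ≠ 1 := fun e => by have := congrArg Fin.val e; rw [h1] at this; simp at this
    rw [e] at this
    simp [gA, gB, Finsupp.single_eq_of_ne e0, Finsupp.single_eq_of_ne e1] at this

open Classical in
theorem diag (h : Hyp n q m) (p r : Par n q m) (hr : rk p ≤ rk r) :
    coef (spanMon_isMonomial _) (tgt h r) (app (bas (k := k) h p) (pos_mem h r)) = if p = r then 1 else 0 := by
  have h1 := val_one h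
  have := h.two_le; have := h.lt; have := h.q_pos
  have hp := piv_spec h
  have e01 : (0 : Fin (n + 1)) ≠ 1 := fun e => by have := congrArg Fin.val e; rw [h1] at this; simp at this
  have e0l : (0 : Fin (n + 1)) ≠ Fin.last n := fun e => by have := congrArg Fin.val e; simp at this; omega
  have e1l : (1 : Fin (n + 1)) ≠ Fin.last n := fun e => by have := congrArg Fin.val e; rw [h1] at this; simp at this; omega
  rcases p with (i | s | i) | (j | τ | p) <;> simp only [bas] <;>
    refine coef_moveHom_eq _ _ _ _ _ _ _ _ ⟨?_, fun e => ?_⟩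
  all_goals try subst e
  · rintro ⟨⟨hle, -⟩, he, -⟩
    have hpe := pos_eq_gA_of_le h r hle
    rw [hpe, tsub_self, add_zero] at he
    rcases r with (i' | s | i') | (j | τ | p') <;> simp only [pos, tgt] at hpe he
    · rw [Subtype.ext (gA_inj hpe)]
    · have := congrArg (fun f : Fin (n + 1) →₀ ℕ => f 0) he
      simp only [Finsupp.add_apply, sget, h1, Fin.val_zero, Fin.val_last, if_true] at this
      have hs' := s.2
      split_ifs at this <;> omega
    · have := congrArg (fun f : Fin (n + 1) →₀ ℕ => f 0) he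
      simp [Finsupp.single_eq_of_ne e0l, Finsupp.single_eq_of_ne e01] at this
    · exact absurd hpe.symm (gA_ne_gB h j.2.1)
    · exact absurd hpe.symm (gA_ne_gB h (by simp [two]))
    · exact absurd hpe.symm (gA_ne_gB h p'.1.2.1)
  · refine ⟨⟨le_rfl, fun x _ => rfl⟩, ?_, tgt_not_mem h _⟩
    simp [pos, tgt]
  · rintro ⟨⟨hle, -⟩, he, -⟩
    rcases r with (i' | s' | i') | (j | τ | p') <;> simp only [rk] at hr <;> try omega
    · simp only [pos, tgt, gA, add_tsub_cancel_left] at he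
      rw [Subtype.ext (Finsupp.single_left_injective one_ne_zero (add_right_cancel he))]
    · have := Finsupp.single_le_iff.1 hle
      have e0 : (0 : Fin (n + 1)) ≠ two h := fun e => by have := congrArg Fin.val e; simp [two] at this
      simp [pos, gB, Finsupp.single_eq_of_ne e0, Finsupp.single_eq_of_ne e01] at this
  · have e0 : (0 : Fin (n + 1)) ≠ piv h := fun e => by have := congrArg Fin.val e; simp at this; omega
    refine ⟨⟨by simp [pos, gA], by simp [pos, gA, Finsupp.single_eq_of_ne e0]⟩, ?_, tgt_not_mem h _⟩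
    simp only [pos, tgt, gA, add_tsub_cancel_left]
  · rintro ⟨⟨hle, -⟩, he, -⟩
    have hpe := pos_eq_gA_of_le h r hle
    rw [hpe, tsub_self, add_zero] at he
    rcases r with (i' | s | i') | (j | τ | p') <;> simp only [pos, tgt] at hpe he
    · have := congrArg (fun f : Fin (n + 1) →₀ ℕ => f 0) he
      simp [Finsupp.single_eq_of_ne e0l, Finsupp.single_eq_of_ne e01] at this
    · have := congrArg (fun f : Fin (n + 1) →₀ ℕ => f (piv h)) he
      simp only [Finsupp.add_apply, sget, h1, Fin.val_zero, Fin.val_last, if_true] at this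
      split_ifs at this <;> omega
    · rw [Subtype.ext (gA_inj hpe)]
    · exact absurd hpe.symm (gA_ne_gB h j.2.1)
    · exact absurd hpe.symm (gA_ne_gB h (by simp [two]))
    · exact absurd hpe.symm (gA_ne_gB h p'.1.2.1)
  · refine ⟨⟨le_rfl, fun x _ => rfl⟩, ?_, tgt_not_mem h _⟩
    simp [pos, tgt]
  · rintro ⟨⟨hle, -⟩, he, -⟩
    have hpe := pos_eq_gB_of_le h r j.2.1 hle
    rw [hpe, tsub_self, add_zero] at he
    rcases r with (i' | s | i') | (j' | τ | p') <;> simp only [pos, tgt] at hpe he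
    · exact absurd hpe (gA_ne_gB h j.2.1)
    · exact absurd hpe (gA_ne_gB h j.2.1)
    · exact absurd hpe (gA_ne_gB h j.2.1)
    · rw [Subtype.ext (gB_inj hpe)]
    · have := congrArg (fun f : Fin (n + 1) →₀ ℕ => f 0) he
      simp [sget, two, (eta_spec h τ.2).1] at this
    · have := congrArg (fun f : Fin (n + 1) →₀ ℕ => f 0) he
      have hp' := p'.2.2
      simp only [Finsupp.add_apply, sget, h1, Fin.val_zero, Fin.val_last, if_true] at this
      revert this; simp [sget, h1, show p'.2.1.val ≠ 0 by omega]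
  · refine ⟨⟨le_rfl, fun x _ => rfl⟩, ?_, tgt_not_mem h _⟩
    simp [pos, tgt]
  · rintro ⟨⟨hle, hc⟩, he, -⟩
    rcases r with (i' | s' | i') | (j | τ' | p') <;> simp only [rk] at hr <;> try omega
    · have e0 : (0 : Fin (n + 1)) ≠ piv h := fun e => by have := congrArg Fin.val e; simp at this; omega
      simp [pos, gA, Finsupp.single_eq_of_ne e0] at hc
    · simp only [pos, tgt, gB, add_tsub_cancel_left] at he
      rw [Subtype.ext (add_right_cancel he)]
  · have e0 : (0 : Fin (n + 1)) ≠ two h := fun e => by have := congrArg Fin.val e; simp [two] at this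
    refine ⟨⟨by simp [pos, gB], by simp [pos, gB, Finsupp.single_eq_of_ne e0, Finsupp.single_eq_of_ne e01]⟩, ?_,
      tgt_not_mem h _⟩
    simp only [pos, tgt, gB, add_tsub_cancel_left]
  · rintro ⟨⟨hle, -⟩, he, -⟩
    have hpe := pos_eq_gB_of_le h r p.1.2.1 hle
    rw [hpe, tsub_self, add_zero] at he
    have hs := p.2.2
    rcases r with (i' | s | i') | (j' | τ | p') <;> simp only [pos, tgt] at hpe he
    · exact absurd hpe (gA_ne_gB h p.1.2.1)
    · exact absurd hpe (gA_ne_gB h p.1.2.1)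
    · exact absurd hpe (gA_ne_gB h p.1.2.1)
    · have := congrArg (fun f : Fin (n + 1) →₀ ℕ => f 0) he
      simp only [Finsupp.add_apply, sget, h1, Fin.val_zero, Fin.val_last, if_true] at this
      revert this; simp [sget, h1, show p.2.1.val ≠ 0 by omega]; intro hh; omega
    · have := congrArg (fun f : Fin (n + 1) →₀ ℕ => f 1) he
      have := (eta_spec h τ.2).2.2
      simp only [Finsupp.add_apply, sget, two, h1] at *
      split_ifs at * <;> omega
    · have e2 := Finsupp.single_left_injective one_ne_zero (add_left_cancel he)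
      rw [Prod.ext (Subtype.ext (gB_inj hpe)) (Subtype.ext e2.symm)]
  · refine ⟨⟨le_rfl, fun x _ => rfl⟩, ?_, tgt_not_mem h _⟩
    simp [pos, tgt]

end TwoBlock

end Groth.Agent.W4Hilb
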