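import Mathlib
import Groth.Agent.W4Hilb.TwoBlock

/-! Injectivity of the coordinates and the count. -/

set_option autoImplicit false
set_option backward.isDefEq.respectTransparency false
set_option linter.unusedSimpArgs false

namespace Groth.Agent.W4Hilb

open MvPolynomial W4c1hilbpn
open Finsupp (single)

universe u

namespace TwoBlock

variable {k : Type u} [Field k] {n q m : ℕ}

theorem degree_two_shape {γ : Fin (n + 1) →₀ ℕ} {a : Fin (n + 1)} {d : ℕ} (h2 : γ.degree = d + 1)
    (ha : 1 ≤ γ a) : ∃ ρ : Fin (n + 1) →₀ ℕ, γ = ρ + single a 1 ∧ ρ.degree = d := by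
  obtain ⟨η, rfl⟩ := exists_add_of_le (Finsupp.single_le_iff.2 ha)
  rw [map_add, Finsupp.degree_single] at h2
  exact ⟨η, add_comm _ _, by omega⟩

theorem eq_single_of_degree_one {γ : Fin (n + 1) →₀ ℕ} (h : γ.degree = 1) : ∃ v, γ = single v 1 := by
  obtain ⟨i, hi⟩ : ∃ i, γ i ≠ 0 := by
    by_contra hc
    push Not at hc
    rw [show γ = 0 from Finsupp.ext hc, map_zero] at h
    omega
  obtain ⟨ρ, rfl, hρ⟩ := degree_two_shape (a := i) (d := 0) h (by omega)
  exact ⟨i, by rw [(Finsupp.degree_eq_zero_iff ρ).1 hρ, zero_add]⟩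

theorem mem_add_single (h : Hyp n q m) {γ : Fin (n + 1) →₀ ℕ} (hγ : γ ∉ exps (ideal k n q m)) {x : Fin (n + 1)}
    (hx0 : x.val ≠ 0) (h0 : γ 0 = 0)
    (hB : (x.val = 1 → γ 1 + 1 < q ∨ (γ 1 + 1 = q ∧ ∀ j : Fin (n + 1), 2 ≤ j.val → j.val ≤ m → γ j = 0))
      ∧ (2 ≤ x.val → x.val ≤ m → γ 1 < q)) : γ + single x 1 ∉ exps (ideal k n q m) := by
  have h1 := val_one h
  rw [mem_exps h] at hγ ⊢
  simp only [InA, InB, not_or, not_and, not_exists, not_le, Finsupp.add_apply, sget, h1, Fin.val_zero] at hγ ⊢
  rw [h0] at *
  refine ⟨⟨by split_ifs <;> omega, fun hc => absurd hc (by split_ifs <;> omega)⟩, ?_, ?_⟩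
  · by_cases e : x.val = 1
    · rw [if_pos e]; rcases hB.1 e with hh | ⟨hh, -⟩ <;> omega
    · rw [if_neg e]; have := hγ.2.1; omega
  · intro hq j hj2 hj
    by_cases e : x.val = 1
    · rw [if_pos e] at hq
      rw [if_neg (by omega : ¬ x.val = j.val), add_zero]
      rcases hB.1 e with hh | ⟨-, hh⟩
      · omega
      · rw [hh j hj2 hj]; omega
    · rw [if_neg e, add_zero] at hq
      by_cases e' : x.val = j.val
      · have := hB.2 (by omega) (by omega); omega
      · rw [if_neg e', add_zero]; exact hγ.2.2 hq j hj2 hj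

theorem inj (h : Hyp n q m) (φ : Tgt (ideal k n q m)) (hφ : φ ∈ degZero (ideal k n q m))
    (hz : ∀ r, coef (spanMon_isMonomial _) (tgt h r) (app φ (pos_mem h r)) = 0) : φ = 0 := by
  have h1 := val_one h
  have := h.two_le; have := h.lt; have := h.q_pos
  have hp := piv_spec h
  refine tgt_eq_zero_of_gens fun g hg hgm γ hγ => by_contra fun hne => ?_
  have hdeg := degree_of_coef_ne_zero (spanMon_isMonomial _) hφ hgm hne
  have hstd : ¬ InA γ ∧ ¬ InB q m γ := not_or.1 fun hc => hγ ((mem_exps h).2 hc)
  simp only [InA, InB, not_or, not_and, not_exists, not_le] at hstd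
  obtain ⟨⟨hs0, hsA⟩, hsB1, hsB⟩ := hstd
  -- a monomial containing `x₀`
  have hx0 : ∀ d : ℕ, γ.degree = d + 1 → 1 ≤ γ 0 → γ = single 0 1 + single (Fin.last n) d := by
    intro d hd h0
    obtain ⟨ρ, rfl, hρ⟩ := degree_two_shape hd h0
    have hz' : ∀ x : Fin (n + 1), x.val < n → ρ x = 0 := by
      intro x hx
      by_cases e : x.val = 0
      · obtain rfl : x = 0 := Fin.ext (by simp [e])
        simp at hs0; omega
      · have := hsA h0 x (by omega) hx
        simp only [Finsupp.add_apply] at this
        omega
    rw [add_comm ρ, add_right_inj]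
    ext x
    rw [sget]
    simp only [Fin.val_last]
    by_cases e : n = x.val
    · rw [if_pos e]
      obtain rfl : x = Fin.last n := Fin.ext (by simp [e])
      rw [← hρ, Finsupp.degree_eq_sum, Finset.sum_eq_single (Fin.last n)]
      · intro b _ hb
        exact hz' b (by have : b.val ≠ n := fun e => hb (Fin.ext (by simp [e])); omega)
      · exact fun hh => absurd (Finset.mem_univ _) hh
    · rw [if_neg e]; exact hz' x (by omega)
  rcases hg with ⟨i, hi, rfl⟩ | ⟨j, hj1, hj, rfl⟩
  · -- first block
    have hd2 : γ.degree = 2 := by rw [hdeg]; simp [gA]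
    by_cases h0 : 1 ≤ γ 0
    · obtain rfl := hx0 1 hd2 h0
      exact hne (hz (.inl (.inl ⟨i, hi⟩)))
    replace h0 : γ 0 = 0 := by omega
    by_cases hE : γ = single 1 1 + single (Fin.last n) 1 ∧ q = 1 ∧ (m + 1 = n ∨ (m + 2 = n ∧ i.val + 1 = n))
    · obtain ⟨rfl, hq1, hc⟩ := hE
      exact hne (hz (.inl (.inr (.inr ⟨i, hi, hq1, hc⟩))))
    have hr0 : m + 1 = n → γ 1 = 0 := by
      intro hmn
      by_contra hne1
      have hq1 : q = 1 := by rcases h.case with hh | ⟨hh, -⟩ | ⟨-, hh⟩ <;> omega
      obtain ⟨ρ, rfl, hρ⟩ := degree_two_shape (d := 1) hd2 (show 1 ≤ γ 1 by omega)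
      obtain ⟨s, rfl⟩ := eq_single_of_degree_one hρ
      refine hE ⟨?_, hq1, Or.inl hmn⟩
      rw [add_comm (single s 1 : Fin (n + 1) →₀ ℕ), add_right_inj]
      congr 1
      apply Fin.ext
      simp only [Fin.val_last]
      by_contra hsn
      simp only [Finsupp.add_apply, sget, h1, Fin.val_zero, if_true] at hsB1 hsB h0
      have : s.val ≠ 1 := fun e => by rw [if_pos e] at hsB1; omega
      have : s.val ≠ 0 := fun e => by rw [if_pos e] at h0; omega
      have := hsB (by rw [if_neg (by omega)]; omega) s (by omega) (by omega)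
      simp only [if_true] at this
      omega
    have hpst : γ + single (piv h) 1 ∉ exps (ideal k n q m) := mem_add_single h hγ (by omega) h0
      ⟨fun e => by omega, fun _ hle => by
        have : m + 1 = n := by by_contra e; have := (hp.2.2.1 e).1; omega
        rw [hr0 this]; omega⟩
    have hdes : ∀ η : Fin (n + 1) →₀ ℕ, η.degree = 2 → η 0 = 0 → 1 ≤ η (piv h) → (m + 1 = n → η 1 = 0) →
        coef (spanMon_isMonomial _) η (app φ (gA_mem (k := k) h hp.2.1)) = 0 := by
      intro η hη hη0 hηp hη1
      obtain ⟨ρ, rfl, hρ⟩ := degree_two_shape (d := 1) hη hηp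
      obtain ⟨s, rfl⟩ := eq_single_of_degree_one hρ
      refine hz (.inl (.inr (.inl ⟨s, ?_, fun e hmn => ?_⟩)))
      · by_contra hs
        simp only [Finsupp.add_apply, sget, Fin.val_zero] at hη0
        rw [if_pos (by omega)] at hη0
        omega
      · have := hη1 hmn
        simp only [Finsupp.add_apply, sget, h1] at this
        rw [if_pos e] at this
        omega
    by_cases hip : i = piv h
    · subst hip
      by_cases hγp : 1 ≤ γ (piv h)
      · exact hne (hdes γ hd2 h0 hγp hr0)
      replace hγp : γ (piv h) = 0 := by omega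
      obtain ⟨p', hp'1, hp'n, hp'ne, hp'st⟩ : ∃ p' : Fin (n + 1), 1 ≤ p'.val ∧ p'.val < n ∧ p' ≠ piv h ∧
          γ + single p' 1 ∉ exps (ideal k n q m) := by
        rcases h.case with hr2 | ⟨hr1, hq2⟩ | ⟨hr, hq1⟩
        · have := hp.2.2.1 (by omega)
          refine ⟨⟨n - 2, by omega⟩, by simp; omega, by simp; omega, fun e => by
            have := congrArg Fin.val e; simp at this; omega, mem_add_single h hγ (by simp; omega) h0 ⟨?_, ?_⟩⟩
          · intro e; simp at e; omega
          · intro _ e; simp at e; omega
        · have hpv := hp.2.2.1 (by omega)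
          by_cases hg1 : γ 1 < q
          · exact ⟨two h, by simp [two], by simp [two]; omega, fun e => by
              have := congrArg Fin.val e; simp [two] at this; omega,
              mem_add_single h hγ (by simp [two]) h0 ⟨fun e => by simp [two] at e, fun _ _ => hg1⟩⟩
          · exfalso
            have hq1 : q = 1 := by have := Finsupp.le_degree (1 : Fin (n + 1)) γ; omega
            obtain ⟨ρ, rfl, hρ⟩ := degree_two_shape (d := 1) hd2 (show 1 ≤ γ 1 by omega)
            obtain ⟨s, rfl⟩ := eq_single_of_degree_one hρ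
            refine hE ⟨?_, hq1, Or.inr ⟨hr1, hpv.2⟩⟩
            rw [add_comm (single s 1 : Fin (n + 1) →₀ ℕ), add_right_inj]
            congr 1
            apply Fin.ext
            simp only [Fin.val_last]
            by_contra hsn
            simp only [Finsupp.add_apply, sget, h1, Fin.val_zero, if_true] at hsB1 hsB h0 hγp
            have : s.val ≠ (piv h).val := fun e => by rw [if_pos e] at hγp; omega
            have : s.val ≠ 1 := fun e => by rw [if_pos e] at hsB1; omega
            have : s.val ≠ 0 := fun e => by rw [if_pos e] at h0; omega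
            have := hsB (by rw [if_neg (by omega)]; omega) s (by omega) (by omega)
            simp only [if_true] at this
            omega
        · have hpv := hp.2.2.2 hr
          by_cases hj : ∀ j : Fin (n + 1), 2 ≤ j.val → j.val ≤ m → γ j = 0
          · exact ⟨1, by omega, by omega, fun e => by have := congrArg Fin.val e; omega,
              mem_add_single h hγ (by omega) h0 ⟨fun _ => Or.inr ⟨by rw [hr0 hr]; omega, hj⟩,
                fun e => by omega⟩⟩
          · push Not at hj
            obtain ⟨j, hj2, hjm, hj0⟩ := hj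
            have : j ≠ piv h := fun e => by subst e; omega
            exact ⟨j, by omega, by omega, this,
              mem_add_single h hγ (by omega) h0 ⟨fun e => by omega, fun _ _ => by rw [hr0 hr]; omega⟩⟩
      refine hne (coef_rel (spanMon_isMonomial _) φ hgm (gA_mem h hp'n) (δ := single (piv h) 1)
        (δ' := single p' 1) (by simp only [gA]; abel) hp'st fun hle => ?_)
      have := Finsupp.single_le_iff.1 hle
      rw [Finsupp.add_apply, hγp, Finsupp.single_eq_of_ne hp'ne.symm] at this
      omega
    · refine hne (coef_rel (spanMon_isMonomial _) φ hgm (gA_mem h hp.2.1) (δ := single i 1)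
        (δ' := single (piv h) 1) (by simp only [gA]; abel) hpst fun hle => ?_)
      have hle' := Finsupp.single_le_iff.1 hle
      rw [Finsupp.add_apply, Finsupp.single_eq_of_ne hip, add_zero] at hle'
      refine hdes _ ?_ ?_ ?_ ?_
      · obtain ⟨η, hη⟩ := exists_add_of_le hle
        rw [hη, add_tsub_cancel_left]
        have := congrArg Finsupp.degree hη
        simp only [map_add, Finsupp.degree_single] at this
        omega
      · simp only [Finsupp.tsub_apply, Finsupp.add_apply, h0, sget, Fin.val_zero]
        rw [if_neg (by omega : ¬ (piv h).val = 0)]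
        omega
      · simp [Finsupp.single_eq_of_ne (Ne.symm hip)]
      · intro hmn
        simp only [Finsupp.tsub_apply, Finsupp.add_apply, hr0 hmn, sget, h1]
        rw [if_neg (by omega : ¬ (piv h).val = 1)]
        omega
  · -- second block
    have hd : γ.degree = q + 1 := by rw [hdeg]; simp [gB]
    by_cases h0 : 1 ≤ γ 0
    · obtain rfl := hx0 q hd h0
      exact hne (hz (.inr (.inl ⟨j, hj1, hj⟩)))
    replace h0 : γ 0 = 0 := by omega
    by_cases hg1 : γ 1 < q
    swap
    · obtain ⟨ρ, rfl⟩ := exists_add_of_le (Finsupp.single_le_iff.2 (show q ≤ γ 1 by omega))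
      have hρ : ρ.degree = 1 := by rw [map_add, Finsupp.degree_single] at hd; omega
      obtain ⟨s, rfl⟩ := eq_single_of_degree_one hρ
      refine hne (hz (.inr (.inr (.inr (⟨j, hj1, hj⟩, ⟨s, ?_⟩)))))
      by_contra hs
      simp only [Finsupp.add_apply, sget, h1, Fin.val_zero, if_true] at hsB1 hsB h0
      have : s.val ≠ 1 := fun e => by rw [if_pos e] at hsB1; omega
      have : s.val ≠ 0 := fun e => by rw [if_pos e] at h0; split_ifs at h0 <;> omega
      have := hsB (by omega) s (by omega) (by omega)
      simp only [if_true] at this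
      omega
    have htwo : (two h : Fin (n + 1)).val = 2 := rfl
    have hdes : ∀ η : Fin (n + 1) →₀ ℕ, η.degree = q + 1 → η 0 = 0 → η 1 < q → 1 ≤ η (two h) →
        coef (spanMon_isMonomial _) η (app φ (gB_mem (k := k) h (j := two h) (by omega) (by omega))) = 0 := by
      intro η hη hη0 hη1 hη2
      obtain ⟨τ, rfl, hτ⟩ := degree_two_shape hη hη2
      simp only [Finsupp.add_apply, sget, htwo, h1, Fin.val_zero] at hη0 hη1
      refine hz (.inr (.inr (.inl ⟨τ, ?_⟩)))
      rw [etaSet, Finset.mem_erase, Finset.mem_finsuppAntidiag]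
      refine ⟨fun e => ?_, ?_, fun x hx => Finset.mem_erase.2 ⟨fun e => ?_, Finset.mem_univ _⟩⟩
      · subst e; simp at hη1
      · rw [Finset.sum_erase _ (by simpa using hη0), ← Finsupp.degree_eq_sum]; exact hτ
      · subst e; rw [Finsupp.mem_support_iff] at hx; omega
    by_cases hj2 : j = two h
    · subst hj2
      by_cases hγ2 : 1 ≤ γ (two h)
      · exact hne (hdes γ hd h0 hg1 hγ2)
      replace hγ2 : γ (two h) = 0 := by omega
      obtain ⟨j', hj'1, hj'm, hj'ne, hst⟩ : ∃ j' : Fin (n + 1), 1 ≤ j'.val ∧ j'.val ≤ m ∧ j' ≠ two h ∧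
          γ + single j' 1 ∉ exps (ideal k n q m) := by
        by_cases hj : ∀ j : Fin (n + 1), 2 ≤ j.val → j.val ≤ m → γ j = 0
        · refine ⟨1, by omega, by omega, fun e => by have := congrArg Fin.val e; omega,
            mem_add_single h hγ (by omega) h0 ⟨fun _ => ?_, fun e => by omega⟩⟩
          rcases (Nat.succ_le_of_lt hg1).lt_or_eq with hh | hh
          · exact Or.inl hh
          · exact Or.inr ⟨hh, hj⟩
        · push Not at hj
          obtain ⟨j', hj2', hjm, hj0⟩ := hj
          have : j' ≠ two h := fun e => by subst e; omega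
          exact ⟨j', by omega, hjm, this,
            mem_add_single h hγ (by omega) h0 ⟨fun e => by omega, fun _ _ => hg1⟩⟩
      refine hne (coef_rel (spanMon_isMonomial _) φ hgm (gB_mem h hj'1 hj'm) (δ := single (two h) 1)
        (δ' := single j' 1) (by simp only [gB]; abel) hst fun hle => ?_)
      have := Finsupp.single_le_iff.1 hle
      rw [Finsupp.add_apply, hγ2, Finsupp.single_eq_of_ne hj'ne.symm] at this
      omega
    · have hst : γ + single (two h) 1 ∉ exps (ideal k n q m) :=
        mem_add_single h hγ (by omega) h0 ⟨fun e => by omega, fun _ _ => hg1⟩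
      refine hne (coef_rel (spanMon_isMonomial _) φ hgm (gB_mem h (j := two h) (by omega) (by omega))
        (δ := single j 1) (δ' := single (two h) 1) (by simp only [gB]; abel) hst fun hle => ?_)
      refine hdes _ ?_ ?_ ?_ ?_
      · obtain ⟨η, hη⟩ := exists_add_of_le hle
        rw [hη, add_tsub_cancel_left]
        have := congrArg Finsupp.degree hη
        simp only [map_add, Finsupp.degree_single] at this
        omega
      · simp only [Finsupp.tsub_apply, Finsupp.add_apply, h0, sget, htwo, Fin.val_zero]
        split_ifs <;> omega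
      · simp only [Finsupp.tsub_apply, Finsupp.add_apply, sget, htwo, h1]
        split_ifs <;> omega
      · simp [Finsupp.single_eq_of_ne (Ne.symm hj2)]

theorem card_fin_sub {N : ℕ} (a b : ℕ) (hb : b ≤ N) :
    Fintype.card {x : Fin N // a ≤ x.val ∧ x.val < b} = b - a := by
  rw [← Fintype.card_fin (b - a)]
  exact Fintype.card_congr
    { toFun := fun x => ⟨x.1.val - a, by have := x.2; omega⟩
      invFun := fun y => ⟨⟨y.val + a, by omega⟩, by simp; omega⟩
      left_inv := fun x => by have := x.2; ext; simp; omega
      right_inv := fun y => by ext; simp }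

theorem card_etaSet (h : Hyp n q m) : (etaSet n q).card = Nat.choose (n + q - 1) (n - 1) - 1 := by
  have := h.two_le; have := h.lt; have := h.q_pos
  have h1 := val_one h
  rw [etaSet, Finset.card_erase_of_mem, Finset.card_finsuppAntidiag_nat_eq_choose, Finset.card_erase_of_mem
    (Finset.mem_univ _), Finset.card_univ, Fintype.card_fin]
  · congr 1
    rw [show n + 1 - 1 + q - 1 = n + q - 1 by omega]
    exact Nat.choose_symm_of_eq_add (by omega)
  · rw [Finset.mem_finsuppAntidiag]
    have e : (1 : Fin (n + 1)) ∈ Finset.univ.erase (0 : Fin (n + 1)) := by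
      refine Finset.mem_erase.2 ⟨fun e => ?_, Finset.mem_univ _⟩
      have := congrArg Fin.val e; rw [h1] at this; simp at this
    refine ⟨?_, Finsupp.support_single_subset.trans (by simpa using e)⟩
    rw [Finset.sum_eq_single_of_mem _ e fun b _ hb => Finsupp.single_eq_of_ne hb, Finsupp.single_eq_same]

theorem finrank_eq (h : Hyp n q m) :
    Module.finrank k ↥(degZero (ideal k n q m)) =
      n + Fintype.card (IV n m) + Fintype.card (IE n q m) + (m + (Nat.choose (n + q - 1) (n - 1) - 1) + m * (n - m)) := by
  have := h.two_le; have := h.lt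
  rw [show Module.finrank k ↥(degZero (ideal k n q m)) = Fintype.card (Par n q m) by
    classical
    exact finrank_degZero (spanMon_isMonomial _) (pos h) (pos_mem h) (tgt h) rk (bas h) (bas_mem h)
      (fun p r hr => by rw [diag h p r hr]; congr) (inj h)]
  have eA : Fintype.card (IA n) = n := by
    have := card_fin_sub (N := n + 1) 0 n (by omega)
    rw [Nat.sub_zero] at this
    refine Eq.trans ?_ this
    exact Fintype.card_congr (Equiv.subtypeEquivRight fun x => by simp)
  have eB : Fintype.card (IB n m) = m := by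
    have := card_fin_sub (N := n + 1) 1 (m + 1) (by omega)
    rw [show m + 1 - 1 = m by omega] at this
    refine Eq.trans ?_ this
    exact Fintype.card_congr (Equiv.subtypeEquivRight fun x => by simp)
  have eP : Fintype.card {s : Fin (n + 1) // m < s.val} = n - m := by
    have := card_fin_sub (N := n + 1) (m + 1) (n + 1) le_rfl
    rw [show n + 1 - (m + 1) = n - m by omega] at this
    refine Eq.trans ?_ this
    exact Fintype.card_congr (Equiv.subtypeEquivRight fun x => by simp; omega)
  simp only [Fintype.card_sum, Fintype.card_prod, Fintype.card_coe, eA, eB, eP, card_etaSet h]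
  omega

theorem card_IV_pos (h : m + 1 ≠ n) : Fintype.card (IV n m) = n := by
  have := card_fin_sub (N := n + 1) 1 (n + 1) le_rfl
  rw [Nat.add_sub_cancel] at this
  refine Eq.trans ?_ this
  exact Fintype.card_congr (Equiv.subtypeEquivRight fun x => by simp [h]; omega)

theorem card_IV_zero (h : m + 1 = n) : Fintype.card (IV n m) = n - 1 := by
  have := card_fin_sub (N := n + 1) 2 (n + 1) le_rfl
  rw [show n + 1 - 2 = n - 1 by omega] at this
  refine Eq.trans ?_ this
  exact Fintype.card_congr (Equiv.subtypeEquivRight fun x => by simp [h]; omega)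

end TwoBlock

end Groth.Agent.W4Hilb
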