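import Mathlib
import Groth.Agent.W4Hilb.TwoBlockMain

/-! The three two-block rows. -/

set_option autoImplicit false
set_option backward.isDefEq.respectTransparency false

namespace Groth.Agent.W4Hilb

open MvPolynomial W4c1hilbpn
open Finsupp (single)

universe u

namespace TwoBlock

variable {k : Type u} [Field k] {n q m : ℕ}

theorem gA_monomial (i : Fin (n + 1)) : (X 0 * X i : MvPolynomial (Fin (n + 1)) k) = monomial (gA i) 1 := by
  rw [X, X, monomial_mul, one_mul]; rfl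

theorem gB_monomial (j : Fin (n + 1)) : (X 1 ^ q * X j : MvPolynomial (Fin (n + 1)) k) = monomial (gB q j) 1 := by
  rw [X_pow_eq_monomial, X, monomial_mul, one_mul]; rfl

theorem ideal_eq (k : Type u) [Field k] (n q m : ℕ) :
    Ideal.span ({f : MvPolynomial (Fin (n + 1)) k | ∃ i : Fin (n + 1), i.val + 1 ≤ n ∧ f = X 0 * X i} ∪
      {f : MvPolynomial (Fin (n + 1)) k | ∃ i : Fin (n + 1), 1 ≤ i.val ∧ i.val ≤ m ∧ f = X 1 ^ q * X i}) =
      ideal k n q m := by
  unfold ideal spanMon gens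
  congr 1
  rw [Set.image_union]
  congr 1 <;> ext f
  · constructor
    · rintro ⟨i, hi, rfl⟩; exact ⟨_, ⟨i, hi, rfl⟩, (gA_monomial i).symm⟩
    · rintro ⟨_, ⟨i, hi, rfl⟩, rfl⟩; exact ⟨i, hi, (gA_monomial i).symm⟩
  · constructor
    · rintro ⟨i, h1, hi, rfl⟩; exact ⟨_, ⟨i, h1, hi, rfl⟩, (gB_monomial i).symm⟩
    · rintro ⟨_, ⟨i, h1, hi, rfl⟩, rfl⟩; exact ⟨i, h1, hi, (gB_monomial i).symm⟩

theorem count_general (k : Type u) [Field k] (n q r : ℕ) (hn : 4 ≤ n) (hq : 1 ≤ q) (hr : r + 3 ≤ n)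
    (hcase : 2 ≤ r ∨ (r = 1 ∧ 3 ≤ q)) :
    Module.finrank k ↥(degZero (ideal k n q (n - r - 1))) =
      3 * n - 1 + (n - r - 2) * (r + 1) + Nat.choose (n + q - 1) (n - 1) := by
  have h : Hyp n q (n - r - 1) := ⟨by omega, by omega, hq, by omega⟩
  rw [finrank_eq h, card_IV_pos (by omega)]
  haveI : IsEmpty (IE n q (n - r - 1)) := ⟨fun i => by rcases i.2 with ⟨-, h1, h2 | ⟨h2, -⟩⟩ <;> omega⟩
  rw [Fintype.card_eq_zero]
  have hC : 1 ≤ Nat.choose (n + q - 1) (n - 1) := Nat.choose_pos (by omega)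
  obtain ⟨t, ht⟩ : ∃ t, n - r - 1 = t + 1 := ⟨n - r - 2, by omega⟩
  rw [ht, show n - r - 2 = t by omega, show n - (t + 1) = r + 1 by omega, add_mul, one_mul]
  omega

theorem count_n21 (k : Type u) [Field k] (n : ℕ) (hn : 4 ≤ n) :
    Module.finrank k ↥(degZero (ideal k n 1 (n - 2))) = 6 * n - 6 := by
  have h : Hyp n 1 (n - 2) := ⟨by omega, by omega, le_rfl, by omega⟩
  rw [finrank_eq h, card_IV_pos (by omega)]
  have hE : Fintype.card (IE n 1 (n - 2)) = 1 := by
    refine Fintype.card_eq_one_iff.2 ⟨⟨⟨n - 1, by omega⟩, by simp; omega⟩, fun i => Subtype.ext (Fin.ext ?_)⟩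
    rcases i.2 with ⟨-, -, h2 | ⟨-, h3⟩⟩ <;> simp <;> omega
  rw [hE, show n + 1 - 1 = n from rfl, Nat.choose_symm_of_eq_add (show n = (n - 1) + 1 by omega), Nat.choose_one_right,
    show n - (n - 2) = 2 by omega]
  omega

theorem count_n11 (k : Type u) [Field k] (n : ℕ) (hn : 3 ≤ n) :
    Module.finrank k ↥(degZero (ideal k n 1 (n - 1))) = 6 * n - 4 := by
  have h : Hyp n 1 (n - 1) := ⟨by omega, by omega, le_rfl, by omega⟩
  rw [finrank_eq h, card_IV_zero (by omega)]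
  have hE : Fintype.card (IE n 1 (n - 1)) = n := by
    have := card_fin_sub (N := n + 1) 0 n (by omega)
    rw [Nat.sub_zero] at this
    refine Eq.trans ?_ this
    exact Fintype.card_congr (Equiv.subtypeEquivRight fun x => by
      simp only [true_and, zero_le]
      exact ⟨fun hx => hx.1, fun hx => ⟨hx, Or.inl (by omega)⟩⟩)
  rw [hE, show n + 1 - 1 = n from rfl, Nat.choose_symm_of_eq_add (show n = (n - 1) + 1 by omega), Nat.choose_one_right,
    show n - (n - 1) = 1 by omega]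
  omega

end TwoBlock

end Groth.Agent.W4Hilb
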