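import Mathlib
import Groth.Agent.W4Hilb.TwoBlockMain

/-! The degree-zero tangent space at `x₀·(x₀,…,x_{n-1}) + (x₁^q)`. -/

set_option autoImplicit false
set_option backward.isDefEq.respectTransparency false
set_option linter.unusedSimpArgs false

namespace Groth.Agent.W4Hilb

open MvPolynomial W4c1hilbpn
open Finsupp (single)

universe u

namespace PowPoint

open TwoBlock (gA InA sget le_pair_iff pointOK coef_moveHom_eq degree_two_shape eq_single_of_degree_one gA_inj card_fin_sub gen_eq_of_le)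

variable {k : Type u} [Field k] {n q : ℕ}

/-- Standing hypotheses. -/
def Hyp (n q : ℕ) : Prop := (n = 3 ∧ 4 ≤ q) ∨ (4 ≤ n ∧ 2 ≤ q)

theorem bds (h : Hyp n q) : 3 ≤ n ∧ 2 ≤ q ∧ ((1 : Fin (n + 1)) : ℕ) = 1 := by
  have : 3 ≤ n ∧ 2 ≤ q := by rcases h with h | h <;> omega
  exact ⟨this.1, this.2, by rw [Fin.val_one', Nat.mod_eq_of_lt (by omega)]⟩

/-- Generators. -/
def gens (n q : ℕ) : Set (Fin (n + 1) →₀ ℕ) :=
  {β | ∃ i : Fin (n + 1), i.val < n ∧ β = gA i} ∪ {single 1 q}

/-- The ideal. -/
noncomputable abbrev ideal (k : Type u) [Field k] (n q : ℕ) : Ideal (MvPolynomial (Fin (n + 1)) k) :=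
  spanMon k (gens n q)

theorem mem_exps (h : Hyp n q) {β : Fin (n + 1) →₀ ℕ} :
    β ∈ exps (ideal k n q) ↔ InA β ∨ q ≤ β 1 := by
  obtain ⟨hn, hq, h1⟩ := bds h
  rw [mem_exps_spanMon]
  constructor
  · rintro ⟨g, (⟨i, hi, rfl⟩ | rfl), hle⟩
    · simp only [gA, le_pair_iff] at hle
      rcases hle with ⟨-, hh⟩ | ⟨hne, h0, hi'⟩
      · exact Or.inl (Or.inl (by omega))
      · exact Or.inl (Or.inr ⟨h0, i, Nat.one_le_iff_ne_zero.2 fun e => hne (Fin.ext (by simp [e])), hi, hi'⟩)
    · exact Or.inr (Finsupp.single_le_iff.1 hle)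
  · rintro ((h0 | ⟨h0, i, hi1, hi, hb⟩) | h0)
    · exact ⟨_, Or.inl ⟨0, by simp; omega, rfl⟩, le_pair_iff.2 (Or.inl ⟨rfl, h0⟩)⟩
    · exact ⟨_, Or.inl ⟨i, hi, rfl⟩, le_pair_iff.2 (Or.inr ⟨fun e => by subst e; simp at hi1, h0, hb⟩)⟩
    · exact ⟨_, Or.inr rfl, Finsupp.single_le_iff.2 h0⟩

theorem gA_mem {i : Fin (n + 1)} (hi : i.val < n) : gA i ∈ exps (ideal k n q) :=
  mem_exps_spanMon.2 ⟨_, Or.inl ⟨i, hi, rfl⟩, le_rfl⟩

theorem gQ_mem : (single 1 q : Fin (n + 1) →₀ ℕ) ∈ exps (ideal k n q) :=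
  mem_exps_spanMon.2 ⟨_, Or.inr rfl, le_rfl⟩

/-- Indices of the first block. -/
abbrev IA (n : ℕ) : Type := {i : Fin (n + 1) // i.val < n}
/-- Ratio parameters. -/
abbrev IV (n : ℕ) : Type := {s : Fin (n + 1) // 1 ≤ s.val}
/-- The admissible monomials. -/
noncomputable def etaSet (n q : ℕ) : Finset (Fin (n + 1) →₀ ℕ) :=
  (TwoBlock.etaSet n q).erase (single (Fin.last n) q)
/-- All parameters. -/
abbrev Par (n q : ℕ) : Type := (IA n ⊕ IV n) ⊕ (Unit ⊕ ↥(etaSet n q))

theorem eta_spec (h : Hyp n q) {τ : Fin (n + 1) →₀ ℕ} (hτ : τ ∈ etaSet n q) :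
    τ 0 = 0 ∧ τ.degree = q ∧ τ 1 < q ∧ ∃ i : Fin (n + 1), 1 ≤ i.val ∧ i.val < n ∧ 1 ≤ τ i := by
  obtain ⟨hn, hq, h1⟩ := bds h
  rw [etaSet, Finset.mem_erase] at hτ
  obtain ⟨hne, hτ⟩ := hτ
  obtain ⟨a, b, c⟩ : τ 0 = 0 ∧ τ.degree = q ∧ τ 1 < q := by
    rw [TwoBlock.etaSet, Finset.mem_erase, Finset.mem_finsuppAntidiag] at hτ
    obtain ⟨hne1, hsum, hsupp⟩ := hτ
    have h0 : τ 0 = 0 := Finsupp.notMem_support_iff.1 fun hm => by simpa using hsupp hm
    have hdeg : τ.degree = q := by
      rw [Finsupp.degree_eq_sum, ← Finset.add_sum_erase _ _ (Finset.mem_univ (0 : Fin (n + 1))), h0, zero_add]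
      exact hsum
    refine ⟨h0, hdeg, ?_⟩
    have hle := Finsupp.le_degree (1 : Fin (n + 1)) τ
    rcases (hdeg ▸ hle : τ 1 ≤ q).lt_or_eq with hlt | heq
    · exact hlt
    · obtain ⟨ρ, hρ⟩ := exists_add_of_le (Finsupp.single_le_iff.2 heq.ge)
      have h2 : ρ.degree = 0 := by
        have := congrArg Finsupp.degree hρ
        rw [map_add, Finsupp.degree_single] at this
        omega
      exact absurd (by rw [hρ, (Finsupp.degree_eq_zero_iff ρ).1 h2, add_zero]) hne1
  refine ⟨a, b, c, ?_⟩
  by_contra hc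
  push Not at hc
  apply hne
  have hz : ∀ x : Fin (n + 1), x.val < n → τ x = 0 := fun x hx => by
    by_cases e : x.val = 0
    · obtain rfl : x = 0 := Fin.ext (by simp [e])
      exact a
    · have := hc x (by omega) hx; omega
  ext x
  rw [sget]
  simp only [Fin.val_last]
  by_cases e : n = x.val
  · rw [if_pos e]
    obtain rfl : x = Fin.last n := Fin.ext (by simp [e])
    rw [← b, Finsupp.degree_eq_sum, Finset.sum_eq_single (Fin.last n)]
    · intro y _ hy
      exact hz y (by have : y.val ≠ n := fun e => hy (Fin.ext (by simp [e])); omega)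
    · exact fun hh => absurd (Finset.mem_univ _) hh
  · rw [if_neg e]; exact hz x (by omega)

theorem okA (h : Hyp n q) (i : IA n) :
    MoveOK (ideal k n q) (gA i.1) (single 0 1 + single (Fin.last n) 1)
      (fun β => ∀ x : Fin (n + 1), x.val < n → β x = gA i.1 x) := by
  obtain ⟨hn, hq, h1⟩ := bds h
  refine pointOK _ _ (fun x => x.val < n) (fun x hx => (mem_exps h).2 (Or.inl ?_)) (fun β hβ hle => ?_)
  · by_cases e : x = 0
    · subst e; exact Or.inl (by simp)
    · exact Or.inr ⟨by simp only [Finsupp.add_apply, Finsupp.single_eq_same]; omega, x,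
        Nat.one_le_iff_ne_zero.2 fun e' => e (Fin.ext (by simp [e'])), hx, by simp⟩
  · have hc0 := hle 0 (by simp; omega)
    have hc1 := hle 1 (by omega)
    simp only [gA, Finsupp.add_apply, sget, h1, Fin.val_zero, if_true] at hc0 hc1
    rw [gA, le_pair_iff]
    rcases (mem_exps h).1 hβ with (h0 | ⟨h0, i', hi1, hi', hb⟩) | h0
    · by_cases e : i.1 = 0
      · exact Or.inl ⟨e.symm, by omega⟩
      · have : i.1.val ≠ 0 := fun e' => e (Fin.ext (by simp [e']))
        rw [if_neg this] at hc0; omega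
    · have : i' = i.1 := by
        by_contra hne
        have hne' : i.1.val ≠ i'.val := fun e => hne (Fin.ext e.symm)
        have := hle i' hi'
        simp only [gA, Finsupp.add_apply, sget, Fin.val_zero] at this
        rw [if_neg (by omega), if_neg hne'] at this
        omega
      subst this
      exact Or.inr ⟨fun e => by rw [← e] at hi1; simp at hi1, h0, hb⟩
    · rw [if_neg (by omega)] at hc1; split_ifs at hc1 <;> omega

theorem okV (h : Hyp n q) (s : Fin (n + 1)) :
    MoveOK (ideal k n q) (single 0 1) (single s 1) (fun β => β 0 ≤ 1) := by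
  obtain ⟨hn, hq, h1⟩ := bds h
  intro β δ hβ
  constructor
  · rintro ⟨hg, hc⟩
    rw [Finsupp.single_le_iff] at hg
    by_cases hd : δ 0 = 0
    · exact Or.inl ⟨Finsupp.single_le_iff.2 (by rw [Finsupp.add_apply]; omega),
        by simp only [Finsupp.add_apply] at hc ⊢; omega⟩
    · refine Or.inr ((mem_exps h).2 (Or.inl (Or.inr ⟨by simp; omega, ?_⟩)))
      rcases (mem_exps h).1 hβ with (h0 | ⟨h0, i, hi1, hi, hb⟩) | h0
      · omega
      · have e : i ≠ 0 := fun e => by subst e; simp at hi1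
        exact ⟨i, hi1, hi, by simp [Finsupp.single_eq_of_ne e]; omega⟩
      · have e : (1 : Fin (n + 1)) ≠ 0 := fun e => by have := congrArg Fin.val e; rw [h1] at this; simp at this
        exact ⟨1, by omega, by omega, by simp [Finsupp.single_eq_of_ne e]; omega⟩
  · rintro ⟨hg, hc⟩
    simp only [Finsupp.add_apply] at hc
    by_cases hb : 1 ≤ β 0
    · exact Or.inl ⟨Finsupp.single_le_iff.2 hb, by omega⟩
    · refine Or.inr (exps_of_le hβ fun x => ?_)
      by_cases e : x = 0
      · subst e; simp only [not_le, Nat.lt_one_iff] at hb; rw [hb]; exact Nat.zero_le _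
      · simp [Finsupp.single_eq_of_ne e]; omega

theorem okB (h : Hyp n q) :
    MoveOK (ideal k n q) (single 1 q) (single 0 1 + single (Fin.last n) (q - 1))
      (fun β => ∀ x : Fin (n + 1), x.val < n → β x = (single 1 q : Fin (n + 1) →₀ ℕ) x) := by
  obtain ⟨hn, hq, h1⟩ := bds h
  refine pointOK _ _ (fun x => x.val < n) (fun x hx => (mem_exps h).2 (Or.inl ?_)) (fun β hβ hle => ?_)
  · by_cases e : x = 0
    · subst e; exact Or.inl (by simp)
    · exact Or.inr ⟨by simp only [Finsupp.add_apply, Finsupp.single_eq_same]; omega, x,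
        Nat.one_le_iff_ne_zero.2 fun e' => e (Fin.ext (by simp [e'])), hx, by simp⟩
  · have hc0 := hle 0 (by simp; omega)
    simp only [sget, h1, Fin.val_zero] at hc0
    rcases (mem_exps h).1 hβ with (h0 | ⟨h0, -⟩) | h0
    · rw [if_neg (by omega)] at hc0; omega
    · rw [if_neg (by omega)] at hc0; omega
    · exact Finsupp.single_le_iff.2 h0

theorem okEta (h : Hyp n q) (τ : Fin (n + 1) →₀ ℕ) (hτ : τ ∈ etaSet n q) :
    MoveOK (ideal k n q) (single 1 q) τ (fun β => β 0 = 0) := by
  obtain ⟨hn, hq, h1⟩ := bds h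
  intro β δ hβ
  constructor
  · rintro ⟨hg, hc⟩
    rw [Finsupp.single_le_iff] at hg
    by_cases hd : δ 0 = 0
    · exact Or.inl ⟨Finsupp.single_le_iff.2 (by rw [Finsupp.add_apply]; omega),
        by simp only [Finsupp.add_apply] at hc ⊢; omega⟩
    · have e : (1 : Fin (n + 1)) ≠ 0 := fun e => by have := congrArg Fin.val e; rw [h1] at this; simp at this
      obtain ⟨-, -, -, i, hi1, hi, hb⟩ := eta_spec h hτ
      refine Or.inr ((mem_exps h).2 (Or.inl (Or.inr ⟨by simp [Finsupp.single_eq_of_ne e.symm]; omega, i, hi1, hi, ?_⟩)))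
      simp only [Finsupp.add_apply]; omega
  · rintro ⟨hg, hc⟩
    simp only [Finsupp.add_apply] at hc
    refine Or.inl ⟨Finsupp.single_le_iff.2 ?_, by omega⟩
    rcases (mem_exps h).1 hβ with (h0 | ⟨h0, -⟩) | h0 <;> omega

/-- The pivot. -/
def two (h : Hyp n q) : Fin (n + 1) := ⟨2, by have := (bds h).1; omega⟩

theorem two_lt (h : Hyp n q) : (two h).val < n := by have := (bds h).1; simp [two]; omega

/-- Positions. -/
noncomputable def pos (h : Hyp n q) : Par n q → Fin (n + 1) →₀ ℕ
  | .inl (.inl i) => gA i.1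
  | .inl (.inr _) => gA (two h)
  | .inr _ => single 1 q

theorem pos_mem (h : Hyp n q) : ∀ p, pos h p ∈ exps (ideal k n q)
  | .inl (.inl i) => gA_mem i.2
  | .inl (.inr _) => gA_mem (two_lt h)
  | .inr _ => gQ_mem

/-- Targets. -/
noncomputable def tgt (h : Hyp n q) : Par n q → Fin (n + 1) →₀ ℕ
  | .inl (.inl _) => single 0 1 + single (Fin.last n) 1
  | .inl (.inr s) => single s.1 1 + single (two h) 1
  | .inr (.inl _) => single 0 1 + single (Fin.last n) (q - 1)
  | .inr (.inr τ) => τ.1

/-- Rank. -/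
def rk : Par n q → ℕ
  | .inl (.inr _) => 1
  | _ => 0

/-- Basic maps. -/
noncomputable def bas (h : Hyp n q) : Par n q → Tgt (ideal k n q)
  | .inl (.inl i) => moveHom (spanMon_isMonomial _) _ _ _ (okA h i)
  | .inl (.inr s) => moveHom (spanMon_isMonomial _) _ _ _ (okV h s.1)
  | .inr (.inl _) => moveHom (spanMon_isMonomial _) _ _ _ (okB h)
  | .inr (.inr τ) => moveHom (spanMon_isMonomial _) _ _ _ (okEta h τ.1 τ.2)

theorem bas_mem (h : Hyp n q) : ∀ p, bas (k := k) h p ∈ degZero (ideal k n q)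
  | .inl (.inl i) => moveHom_mem (spanMon_isMonomial _) _ _ _ (okA h i) (by simp [gA])
  | .inl (.inr s) => moveHom_mem (spanMon_isMonomial _) _ _ _ (okV h s.1) (by simp)
  | .inr (.inl _) => moveHom_mem (spanMon_isMonomial _) _ _ _ (okB h) (by have := (bds h).2.1; rw [map_add, Finsupp.degree_single, Finsupp.degree_single, Finsupp.degree_single]; omega)
  | .inr (.inr τ) => moveHom_mem (spanMon_isMonomial _) _ _ _ (okEta h τ.1 τ.2)
      (by rw [(eta_spec h τ.2).2.1, Finsupp.degree_single])

theorem tgt_not_mem (h : Hyp n q) : ∀ p, tgt h p ∉ exps (ideal k n q) := by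
  obtain ⟨hn, hq, h1⟩ := bds h
  rintro ((i | s) | (_ | τ)) hmem <;> rw [mem_exps h] at hmem <;>
    simp only [tgt, InA, Finsupp.add_apply, sget, two, Fin.val_zero, Fin.val_last, h1, if_true] at hmem
  · rcases hmem with (h0 | ⟨h0, x, a, b, c⟩) | h0 <;> split_ifs at * <;> omega
  · have := s.2
    rcases hmem with (h0 | ⟨h0, x, a, b, c⟩) | h0
    · split_ifs at h0 <;> omega
    · split_ifs at h0 <;> omega
    · split_ifs at h0 <;> omega
  · rcases hmem with (h0 | ⟨h0, x, a, b, c⟩) | h0 <;> split_ifs at * <;> omega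
  · obtain ⟨e0, -, e1, -⟩ := eta_spec h τ.2
    rw [e0] at hmem
    rcases hmem with (h0 | ⟨h0, -⟩) | h0 <;> omega

theorem pos_gA_of_le (h : Hyp n q) (p : Par n q) {i : Fin (n + 1)} (hle : gA i ≤ pos h p) : pos h p = gA i := by
  obtain ⟨hn, hq, h1⟩ := bds h
  rcases p with (a | a) | a
  · exact gen_eq_of_le hle (by simp [pos, gA])
  · exact gen_eq_of_le hle (by simp [pos, gA])
  · exfalso
    have := hle 0
    simp only [pos, gA, Finsupp.add_apply, sget, h1, Fin.val_zero, if_true] at this
    rw [if_neg (by omega : ¬ (1 : ℕ) = 0)] at this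
    omega

theorem not_gA_eq_gQ (h : Hyp n q) (i : Fin (n + 1)) : gA i ≠ single 1 q := fun e => by
  obtain ⟨hn, hq, h1⟩ := bds h
  have := congrArg (fun f : Fin (n + 1) →₀ ℕ => f 0) e
  simp only [gA, Finsupp.add_apply, sget, h1, Fin.val_zero, if_true] at this
  rw [if_neg (by omega : ¬ (1 : ℕ) = 0)] at this
  omega

open Classical in
theorem diag (h : Hyp n q) (p r : Par n q) (hr : rk p ≤ rk r) :
    coef (spanMon_isMonomial _) (tgt h r) (app (bas (k := k) h p) (pos_mem h r)) = if p = r then 1 else 0 := by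
  obtain ⟨hn, hq, h1⟩ := bds h
  rcases p with (i | s) | (_ | τ) <;> simp only [bas] <;>
    refine coef_moveHom_eq _ _ _ _ _ _ _ _ ⟨?_, fun e => ?_⟩
  all_goals try subst e
  · rintro ⟨⟨hle, -⟩, he, -⟩
    have hpe := pos_gA_of_le h r hle
    rw [hpe, tsub_self, add_zero] at he
    rcases r with (i' | s) | r <;> simp only [pos, tgt] at hpe he
    · rw [Subtype.ext (gA_inj hpe)]
    · have := congrArg (fun f : Fin (n + 1) →₀ ℕ => f 0) he
      have hs' := s.2
      revert this; simp [sget, h1, two, show s.1.val ≠ 0 by omega]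
    · exact absurd hpe.symm (not_gA_eq_gQ h _)
  · refine ⟨⟨le_rfl, fun x _ => rfl⟩, ?_, tgt_not_mem h _⟩
    simp [pos, tgt]
  · rintro ⟨⟨hle, -⟩, he, -⟩
    rcases r with (i' | s') | r
    · simp only [rk] at hr; omega
    · simp only [pos, tgt, gA, add_tsub_cancel_left] at he
      rw [Subtype.ext (Finsupp.single_left_injective one_ne_zero (add_right_cancel he))]
    · have := Finsupp.single_le_iff.1 hle
      simp only [pos, sget, h1, Fin.val_zero] at this
      rw [if_neg (by omega : ¬ (1 : ℕ) = 0)] at this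
      omega
  · have e0 : (0 : Fin (n + 1)) ≠ two h := fun e => by have := congrArg Fin.val e; simp [two] at this
    refine ⟨⟨by simp [pos, gA], by simp [pos, gA, Finsupp.single_eq_of_ne e0]⟩, ?_, tgt_not_mem h _⟩
    simp only [pos, tgt, gA, add_tsub_cancel_left]
  · rintro ⟨⟨hle, hc⟩, he, -⟩
    rcases r with (i' | s') | (_ | τ) <;> simp only [pos, tgt] at hle hc he
    · have := hc 0 (by simp; omega)
      revert this; simp [gA, sget, h1, show n ≠ 0 by omega]
    · have := hc 0 (by simp; omega)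
      revert this; simp [gA, sget, h1, show n ≠ 0 by omega]
    · rfl
    · rw [tsub_self, add_zero] at he
      have := congrArg (fun f : Fin (n + 1) →₀ ℕ => f 0) he
      revert this; simp [sget, (eta_spec h τ.2).1, show n ≠ 0 by omega]
  · refine ⟨⟨le_rfl, fun x _ => rfl⟩, ?_, tgt_not_mem h _⟩
    simp [pos, tgt]
  · rintro ⟨⟨hle, hc⟩, he, -⟩
    rcases r with (i' | s') | (_ | τ') <;> simp only [pos, tgt] at hle hc he
    · revert hc; simp [gA, sget, show n ≠ 0 by omega]
    · revert hc; simp [gA, sget, show n ≠ 0 by omega]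
    · rw [tsub_self, add_zero] at he
      have := congrArg (fun f : Fin (n + 1) →₀ ℕ => f 0) he
      revert this; simp [sget, (eta_spec h τ.2).1, show n ≠ 0 by omega]
    · rw [tsub_self, add_zero] at he
      rw [Subtype.ext he]
  · refine ⟨⟨le_rfl, by simp [pos, sget, h1, show n ≠ 0 by omega]⟩, ?_, tgt_not_mem h _⟩
    simp [pos, tgt]

theorem inj (h : Hyp n q) (φ : Tgt (ideal k n q)) (hφ : φ ∈ degZero (ideal k n q))
    (hz : ∀ r, coef (spanMon_isMonomial _) (tgt h r) (app φ (pos_mem h r)) = 0) : φ = 0 := by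
  obtain ⟨hn, hq, h1⟩ := bds h
  refine tgt_eq_zero_of_gens fun g hg hgm γ hγ => by_contra fun hne => ?_
  have hdeg := degree_of_coef_ne_zero (spanMon_isMonomial _) hφ hgm hne
  have hstd : ¬ InA γ ∧ ¬ q ≤ γ 1 := not_or.1 fun hc => hγ ((mem_exps h).2 hc)
  simp only [InA, not_or, not_and, not_exists, not_le] at hstd
  obtain ⟨⟨hs0, hsA⟩, hs1⟩ := hstd
  have hx0 : ∀ d : ℕ, γ.degree = d + 1 → 1 ≤ γ 0 → γ = single 0 1 + single (Fin.last n) d := by
    intro d hd h0
    obtain ⟨ρ, rfl, hρ⟩ := degree_two_shape hd h0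
    have hz' : ∀ x : Fin (n + 1), x.val < n → ρ x = 0 := by
      intro x hx
      by_cases e : x.val = 0
      · obtain rfl : x = 0 := Fin.ext (by simp [e])
        simp at hs0; omega
      · have := hsA h0 x (by omega) hx
        simp only [Finsupp.add_apply] at this
        omega
    rw [add_comm ρ, add_right_inj]
    ext x
    rw [sget]
    simp only [Fin.val_last]
    by_cases e : n = x.val
    · rw [if_pos e]
      obtain rfl : x = Fin.last n := Fin.ext (by simp [e])
      rw [← hρ, Finsupp.degree_eq_sum, Finset.sum_eq_single (Fin.last n)]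
      · intro b _ hb
        exact hz' b (by have : b.val ≠ n := fun e => hb (Fin.ext (by simp [e])); omega)
      · exact fun hh => absurd (Finset.mem_univ _) hh
    · rw [if_neg e]; exact hz' x (by omega)
  have hadd : ∀ x : Fin (n + 1), x.val ≠ 0 → γ 0 = 0 → (x.val = 1 → γ 1 + 1 < q) →
      γ + single x 1 ∉ exps (ideal k n q) := by
    intro x hx0' h0 hx1
    rw [mem_exps h]
    simp only [InA, not_or, not_and, not_exists, not_le, Finsupp.add_apply, sget, h1, Fin.val_zero, h0]
    rw [if_neg hx0']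
    refine ⟨⟨by omega, fun hc => absurd hc (by omega)⟩, ?_⟩
    by_cases e : x.val = 1
    · rw [if_pos e]; exact hx1 e
    · rw [if_neg e]; omega
  have htwo : (two h : Fin (n + 1)).val = 2 := rfl
  rcases hg with ⟨i, hi, rfl⟩ | rfl
  · have hd2 : γ.degree = 2 := by rw [hdeg]; simp [gA]
    by_cases h0 : 1 ≤ γ 0
    · obtain rfl := hx0 1 hd2 h0
      exact hne (hz (.inl (.inl ⟨i, hi⟩)))
    replace h0 : γ 0 = 0 := by omega
    have hdes : ∀ η : Fin (n + 1) →₀ ℕ, η.degree = 2 → η 0 = 0 → 1 ≤ η (two h) →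
        coef (spanMon_isMonomial _) η (app φ (gA_mem (k := k) (two_lt h))) = 0 := by
      intro η hη hη0 hηp
      obtain ⟨ρ, rfl, hρ⟩ := degree_two_shape (d := 1) hη hηp
      obtain ⟨s, rfl⟩ := eq_single_of_degree_one hρ
      refine hz (.inl (.inr ⟨s, ?_⟩))
      by_contra hs
      simp only [Finsupp.add_apply, sget, Fin.val_zero] at hη0
      rw [if_pos (by omega)] at hη0
      omega
    by_cases hip : i = two h
    · subst hip
      by_cases hγp : 1 ≤ γ (two h)
      · exact hne (hdes γ hd2 h0 hγp)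
      obtain ⟨p', hp'1, hp'n, hp'ne, hst⟩ : ∃ p' : Fin (n + 1), 1 ≤ p'.val ∧ p'.val < n ∧ p' ≠ two h ∧
          γ + single p' 1 ∉ exps (ideal k n q) := by
        rcases h with ⟨hn3, hq4⟩ | ⟨hn4, hq2⟩
        · have := Finsupp.le_degree (1 : Fin (n + 1)) γ
          exact ⟨1, by omega, by omega, fun e => by have := congrArg Fin.val e; omega,
            hadd 1 (by omega) h0 (fun _ => by omega)⟩
        · exact ⟨⟨3, by omega⟩, by simp, by simp; omega, fun e => by have := congrArg Fin.val e; simp at this; omega,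
            hadd _ (by simp) h0 (fun e => by simp at e)⟩
      refine hne (coef_rel (spanMon_isMonomial _) φ hgm (gA_mem hp'n) (δ := single (two h) 1)
        (δ' := single p' 1) (by simp only [gA]; abel) hst fun hle => ?_)
      have := Finsupp.single_le_iff.1 hle
      rw [Finsupp.add_apply, Finsupp.single_eq_of_ne hp'ne.symm] at this
      omega
    · refine hne (coef_rel (spanMon_isMonomial _) φ hgm (gA_mem (two_lt h)) (δ := single i 1)
        (δ' := single (two h) 1) (by simp only [gA]; abel) (hadd _ (by omega) h0 (fun e => by omega)) fun hle => ?_)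
      refine hdes _ ?_ ?_ ?_
      · obtain ⟨η, hη⟩ := exists_add_of_le hle
        rw [hη, add_tsub_cancel_left]
        have := congrArg Finsupp.degree hη
        simp only [map_add, Finsupp.degree_single] at this
        omega
      · simp only [Finsupp.tsub_apply, Finsupp.add_apply, h0, sget, Fin.val_zero, htwo]
        split_ifs <;> omega
      · simp [Finsupp.single_eq_of_ne (Ne.symm hip)]
  · have hd : γ.degree = q := by rw [hdeg]; simp
    by_cases h0 : 1 ≤ γ 0
    · obtain rfl := hx0 (q - 1) (by omega) h0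
      exact hne (hz (.inr (.inl ())))
    replace h0 : γ 0 = 0 := by omega
    by_cases hlast : γ = single (Fin.last n) q
    · subst hlast
      refine hne (coef_rel (spanMon_isMonomial _) φ hgm (gA_mem (i := (1 : Fin (n + 1))) (by omega))
        (δ := single 1 (q - 1)) (δ' := single 0 1) ?_ ?_ fun hle => ?_)
      · rw [gA, add_assoc, ← Finsupp.single_add, show 1 + (q - 1) = q by omega]
        exact add_comm (single 1 q : Fin (n + 1) →₀ ℕ) (single 0 1)
      · rw [mem_exps h]
        simp only [InA, not_or, not_and, not_exists, not_le, Finsupp.add_apply, sget, h1, Fin.val_zero, Fin.val_last]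
        refine ⟨⟨by split_ifs <;> omega, fun _ x a b => by split_ifs <;> omega⟩, by split_ifs <;> omega⟩
      · have := Finsupp.single_le_iff.1 hle
        simp only [Finsupp.add_apply, sget, h1, Fin.val_zero, Fin.val_last] at this
        rw [if_neg (by omega : ¬ n = 1), if_neg (by simp)] at this
        omega
    refine hne (hz (.inr (.inr ⟨γ, ?_⟩)))
    rw [etaSet, TwoBlock.etaSet, Finset.mem_erase, Finset.mem_erase, Finset.mem_finsuppAntidiag]
    refine ⟨hlast, fun e => ?_, ?_, fun x hx => Finset.mem_erase.2 ⟨fun e => ?_, Finset.mem_univ _⟩⟩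
    · subst e; simp at hs1
    · rw [Finset.sum_erase _ h0, ← Finsupp.degree_eq_sum]; exact hd
    · subst e; rw [Finsupp.mem_support_iff] at hx; omega

theorem card_etaSet (h : Hyp n q) : (etaSet n q).card = Nat.choose (n + q - 1) (n - 1) - 2 := by
  obtain ⟨hn, hq, h1⟩ := bds h
  have hT : (TwoBlock.etaSet n q).card = Nat.choose (n + q - 1) (n - 1) - 1 := by
    rw [TwoBlock.etaSet, Finset.card_erase_of_mem, Finset.card_finsuppAntidiag_nat_eq_choose,
      Finset.card_erase_of_mem (Finset.mem_univ _), Finset.card_univ, Fintype.card_fin]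
    · congr 1
      rw [show n + 1 - 1 + q - 1 = n + q - 1 by omega]
      exact Nat.choose_symm_of_eq_add (by omega)
    · rw [Finset.mem_finsuppAntidiag]
      have e : (1 : Fin (n + 1)) ∈ Finset.univ.erase (0 : Fin (n + 1)) := by
        refine Finset.mem_erase.2 ⟨fun e => ?_, Finset.mem_univ _⟩
        have := congrArg Fin.val e; rw [h1] at this; simp at this
      refine ⟨?_, Finsupp.support_single_subset.trans (by simpa using e)⟩
      rw [Finset.sum_eq_single_of_mem _ e fun b _ hb => Finsupp.single_eq_of_ne hb, Finsupp.single_eq_same]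
  rw [etaSet, Finset.card_erase_of_mem, hT]
  · omega
  · rw [TwoBlock.etaSet, Finset.mem_erase, Finset.mem_finsuppAntidiag]
    have e : Fin.last n ∈ Finset.univ.erase (0 : Fin (n + 1)) := by
      refine Finset.mem_erase.2 ⟨fun e => ?_, Finset.mem_univ _⟩
      have := congrArg Fin.val e; simp at this; omega
    refine ⟨fun e' => ?_, ?_, Finsupp.support_single_subset.trans (by simpa using e)⟩
    · have := congrArg (fun f : Fin (n + 1) →₀ ℕ => f 1) e'
      simp only [sget, h1, Fin.val_last, if_true] at this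
      rw [if_neg (by omega)] at this
      omega
    · rw [Finset.sum_eq_single_of_mem _ e fun b _ hb => Finsupp.single_eq_of_ne hb, Finsupp.single_eq_same]

theorem finrank_eq (k : Type u) [Field k] (n q : ℕ) (h : Hyp n q) :
    Module.finrank k ↥(degZero (ideal k n q)) = 2 * n - 1 + Nat.choose (n + q - 1) (n - 1) := by
  obtain ⟨hn, hq, h1⟩ := bds h
  rw [show Module.finrank k ↥(degZero (ideal k n q)) = Fintype.card (Par n q) by
    classical
    exact finrank_degZero (spanMon_isMonomial _) (pos h) (pos_mem h) (tgt h) rk (bas h) (bas_mem h)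
      (fun p r hr => by rw [diag h p r hr]) (inj h)]
  have eA : Fintype.card (IA n) = n := by
    have := card_fin_sub (N := n + 1) 0 n (by omega)
    rw [Nat.sub_zero] at this
    refine Eq.trans ?_ this
    exact Fintype.card_congr (Equiv.subtypeEquivRight fun x => by simp)
  have eV : Fintype.card (IV n) = n := by
    have := card_fin_sub (N := n + 1) 1 (n + 1) le_rfl
    rw [Nat.add_sub_cancel] at this
    refine Eq.trans ?_ this
    exact Fintype.card_congr (Equiv.subtypeEquivRight fun x => by simp; omega)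
  simp only [Fintype.card_sum, Fintype.card_unit, Fintype.card_coe, eA, eV, card_etaSet h]
  have hC : 2 ≤ Nat.choose (n + q - 1) (n - 1) := by
    have h2 : Nat.choose n (n - 1) ≤ Nat.choose (n + q - 1) (n - 1) := Nat.choose_le_choose _ (by omega)
    rw [Nat.choose_symm_of_eq_add (show n = (n - 1) + 1 by omega), Nat.choose_one_right] at h2
    omega
  omega

theorem ideal_eq (k : Type u) [Field k] (n q : ℕ) :
    Ideal.span ({f : MvPolynomial (Fin (n + 1)) k | ∃ i : Fin (n + 1), i.val + 1 ≤ n ∧ f = X 0 * X i} ∪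
      {X 1 ^ q}) = ideal k n q := by
  unfold ideal spanMon gens
  congr 1
  rw [Set.image_union, Set.image_singleton]
  congr 1
  · ext f
    constructor
    · rintro ⟨i, hi, rfl⟩; exact ⟨_, ⟨i, hi, rfl⟩, by rw [X, X, monomial_mul, one_mul]; rfl⟩
    · rintro ⟨_, ⟨i, hi, rfl⟩, rfl⟩; exact ⟨i, hi, by rw [X, X, monomial_mul, one_mul]; rfl⟩
  · rw [X_pow_eq_monomial]

end PowPoint

end Groth.Agent.W4Hilb
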